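import Cfsg.Agent.J2.AutData
import Cfsg.Prelude.Def_KGroupFacts

/-!
# The automorphism group of `J₂`
-/

set_option autoImplicit false
set_option maxRecDepth 100000

namespace CfsgLib.J2

open Cfsg.Spor

theorem conj_reflPG (g : G315) (i : Fin 315) : g * reflP i * g⁻¹ = reflP ((g : P315) i) := by
  obtain ⟨_, x, rfl⟩ := g
  exact conj_reflP x i

theorem G_trans (i : Fin 315) : ∃ g : G315, (g : P315) i = ⟨0, by omega⟩ := by
  have h := List.all_eq_true.1 toZero_ok i.val (List.mem_range.2 i.2)
  simp only [Bool.and_eq_true] at h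
  refine ⟨el (toZero.getD i.val 0), Fin.ext ?_⟩
  rw [el_rel h.1 i]
  exact Nat.eq_of_beq_eq_true h.2

theorem reflP_injective : Function.Injective reflP := by
  intro i j h
  obtain ⟨g, hg⟩ := G_trans i
  have h2 := conj_reflPG g j
  rw [← h, conj_reflPG, hg] at h2
  have h3 := reflP_zero_unique h2.symm
  exact (g : P315).injective (hg.trans h3.symm)

theorem reflP_gidx (k : Fin 4) : reflP ⟨gidx k, genI_lt k.2⟩ = ⟨phi (genJ k), genJ k, rfl⟩ := rfl

theorem rtab_rel (j : Fin 315) : Rel (reflP j : P315) (rtab j) := by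
  have hp := List.all_eq_true.1 rPos_ok j.val (List.mem_range.2 j.2)
  simp only [Bool.and_eq_true, Nat.blt_eq] at hp
  have hok := rTabs_ok
  simp only [rTabsOk, Bool.and_eq_true] at hok
  suffices ∀ k < 315, ∀ j : Fin 315, rseq.getD k 0 = j.val → Rel (reflP j : P315) (rtab j) from
    this _ hp.1 j (Nat.eq_of_beq_eq_true hp.2)
  intro k
  induction k using Nat.strong_induction_on with
  | _ k ih =>
    intro hk j hj
    rcases Nat.eq_zero_or_pos k with rfl | hk0
    · have h1 : rseq.getD 0 0 = gidx 0 := Nat.eq_of_beq_eq_true hok.1.1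
      have h2 := Nat.eq_of_beq_eq_true hok.1.2
      obtain rfl : j = ⟨gidx (0 : Fin 4), genI_lt (0 : Fin 4).2⟩ := Fin.ext (hj.symm.trans h1)
      rw [reflP_gidx]
      have hr := genTab_rel 0
      rw [h1] at h2
      exact (h2.symm ▸ hr : Rel (phi (genJ 0)) (rtab (gidx 0)))
    · have hh := List.all_eq_true.1 hok.2 (k - 1) (List.mem_range.2 (by omega))
      rw [show k - 1 + 1 = k by omega] at hh
      simp only [Bool.and_eq_true, Nat.blt_eq] at hh
      obtain ⟨⟨⟨h1, h2⟩, h3⟩, h4⟩ := hh
      have hs : rpar.getD k 0 % 4 < 4 := Nat.mod_lt _ (by omega)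
      have ihp := ih _ h1 (by omega) ⟨_, h2⟩ rfl
      let g : G315 := ⟨phi (genJ ⟨_, hs⟩), genJ ⟨_, hs⟩, rfl⟩
      have hg : Rel (g : P315) (genTab.getD (rpar.getD k 0 % 4) 0) := genTab_rel ⟨_, hs⟩
      have hgp : (g : P315) ⟨_, h2⟩ = j := Fin.ext (by rw [hg, ← hj]; exact Nat.eq_of_beq_eq_true h3)
      have hinv : g⁻¹ = g := by
        rw [inv_eq_iff_mul_eq_one]
        refine Subtype.ext (Equiv.ext fun i => Fin.ext ?_)
        have := List.all_eq_true.1 h4 i.val (List.mem_range.2 i.2)
        simp only [Bool.and_eq_true] at this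
        rw [Subgroup.coe_mul, Equiv.Perm.mul_apply, hg, hg]
        exact Nat.eq_of_beq_eq_true this.1
      intro i
      have := List.all_eq_true.1 h4 i.val (List.mem_range.2 i.2)
      simp only [Bool.and_eq_true] at this
      rw [← hgp, ← conj_reflPG, hinv, Subgroup.coe_mul, Subgroup.coe_mul, Equiv.Perm.mul_apply,
        Equiv.Perm.mul_apply, hg, ihp, hg]
      rw [← hgp] at hj
      rw [← hj]
      exact (Nat.eq_of_beq_eq_true this.2).symm

theorem rtab0_rel : RelL (reflP (⟨0, by omega⟩ : Fin 315) : P315) [rtab 0] := RelL.single (rtab_rel ⟨0, by omega⟩)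

/-- Automorphisms permute the reflections. -/
theorem aut_refl (α : MulAut G315) (i : Fin 315) : ∃ j, α (reflP i) = reflP j := by
  haveI := Fact.mk Nat.prime_two
  suffices h0 : ∃ j, α (reflP (⟨0, by omega⟩ : Fin 315)) = reflP j by
    obtain ⟨j, hj⟩ := h0
    obtain ⟨g, hg⟩ := G_trans i
    refine ⟨((α g⁻¹ : G315) : P315) j, ?_⟩
    have h := conj_reflPG g⁻¹ (⟨0, by omega⟩ : Fin 315)
    have hgi : ((g⁻¹ : G315) : P315) ⟨0, by omega⟩ = i := by
      rw [Subgroup.coe_inv, Equiv.Perm.inv_eq_iff_eq]; exact hg.symm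
    rw [hgi] at h
    rw [← h, map_mul, map_mul, map_inv α g⁻¹, hj, conj_reflPG]
  have hw := sqRoot_ok
  simp only [Bool.and_eq_true, Bool.not_eq_true'] at hw
  have hR : el sqRoot * el sqRoot = reflP (⟨0, by omega⟩ : Fin 315) :=
    G_eq (RelL.appendG (el_rel hw.1.1) (el_rel hw.1.1)) rtab0_rel hw.1.2
  have hR1 : reflP (⟨0, by omega⟩ : Fin 315) ≠ 1 := fun h => by
    have := eqB_of_eq rtab0_rel RelL.nil h
    rw [hw.2] at this
    exact Bool.false_ne_true this
  have hR2 : reflP (⟨0, by omega⟩ : Fin 315) * reflP (⟨0, by omega⟩ : Fin 315) = 1 := by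
    apply Subtype.ext
    have : (refl (⟨0, by omega⟩ : Fin 315)) * refl ⟨0, by omega⟩ = 1 :=
      Equiv.ext fun x => Subtype.ext (qrefl_qrefl (line_qip (show (0 : ℕ) < 315 by omega)) _)
    simp only [reflP, Subgroup.coe_mul, Subgroup.coe_one, ← map_mul]
    exact (congrArg phi (Subtype.ext this : (⟨_, refl_mem _⟩ : twoJ2) * ⟨_, refl_mem _⟩ = 1)).trans (map_one phi)
  set x := α (el sqRoot) with hx
  have hx2 : x * x = α (reflP (⟨0, by omega⟩ : Fin 315)) := by rw [hx, ← map_mul, hR]
  have hx4 : x ^ 4 = 1 := by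
    rw [show 4 = 2 + 2 from rfl, pow_add, pow_two, hx2, ← map_mul, hR2, map_one]
  obtain ⟨g, k, hk, hg⟩ := exists_conj_syl 2 _ _ _ _ syl2_ok (by rw [fac_vals.1]; rfl) ⟨2, by simpa using hx4⟩
  have hv : valid (syl2.getD k 0) = true := by
    have := syl2_ok
    simp only [sylOk, Bool.and_eq_true] at this
    rw [List.getD_eq_getElem _ _ hk]; exact List.all_eq_true.1 this.1.1.1.1.1.1.1 _ (List.getElem_mem hk)
  set y := el (syl2.getD k 0) with hy
  have hy2 : y * y = g * α (reflP (⟨0, by omega⟩ : Fin 315)) * g⁻¹ := by rw [← hg, ← hx2]; group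
  have h := List.all_eq_true.1 sq_ok k (List.mem_range.2 hk)
  simp only [Bool.or_eq_true, Bool.not_eq_true', Bool.and_eq_true] at h
  rcases h with (h | h) | h
  · exfalso
    rw [(powId_iff (el_rel hv) 4).2] at h
    · exact absurd h (by simp)
    · rw [← hy, ← hg, conj_pow, hx4, mul_one, mul_inv_cancel]
  · exfalso
    have h2 := (powId_iff (el_rel hv) 2).1 h
    rw [pow_two, ← hy, hy2, conj_eq_one_iff, EmbeddingLike.map_eq_one_iff] at h2
    exact hR1 h2
  · set d := el (sqConj.getD k 0) with hd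
    have e : d * (y * y) = reflP (⟨0, by omega⟩ : Fin 315) * d :=
      G_eq (RelL.appendG (el_rel h.1) (RelL.appendG (el_rel hv) (el_rel hv)))
        (RelL.appendG rtab0_rel (el_rel h.1)) h.2
    refine ⟨(((d * g)⁻¹ : G315) : P315) ⟨0, by omega⟩, ?_⟩
    rw [← conj_reflPG, eq_mul_inv_iff_mul_eq, eq_inv_mul_iff_mul_eq]
    rw [hy2] at e
    calc d * g * (α (reflP ⟨0, by omega⟩) * (d * g)⁻¹)
        = d * (g * α (reflP ⟨0, by omega⟩) * g⁻¹) * d⁻¹ := by group
      _ = reflP ⟨0, by omega⟩ := by rw [e, mul_inv_cancel_right]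

/-- The permutation of the lines induced by an automorphism. -/
noncomputable def sig (α : MulAut G315) (i : Fin 315) : Fin 315 := (aut_refl α i).choose

theorem sig_spec (α : MulAut G315) (i : Fin 315) : α (reflP i) = reflP (sig α i) := (aut_refl α i).choose_spec

theorem sig_injective (α : MulAut G315) : Function.Injective (sig α) := fun i j h =>
  reflP_injective (α.injective (by rw [sig_spec, sig_spec, h]))

theorem sig_conj (g : G315) (α : MulAut G315) (i : Fin 315) :
    sig (MulAut.conj g * α) i = (g : P315) (sig α i) := by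
  refine reflP_injective ?_
  rw [← sig_spec, MulAut.mul_apply, sig_spec, MulAut.conj_apply, conj_reflPG]

/-- A reflection word. -/
noncomputable def rProd : List (Fin 315) → G315
  | [] => 1
  | i :: l => reflP i * rProd l

theorem rProd_rel : ∀ l : List (Fin 315), RelL (rProd l : P315) (l.map fun i : Fin 315 => rtab i)
  | [] => RelL.nil
  | i :: l => by
    rw [rProd, List.map_cons]
    exact RelL.cons (rtab_rel i) (rProd_rel l)

theorem rProd_map (α : MulAut G315) : ∀ l : List (Fin 315), α (rProd l) = rProd (l.map (sig α))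
  | [] => map_one α
  | i :: l => by rw [rProd, map_mul, sig_spec, rProd_map α l]; rfl

theorem test_map (α : MulAut G315) (bs : List (Fin 315)) (sp : List (List ℕ × ℕ))
    (hw : ∀ e ∈ sp, ∀ i ∈ e.1, i < bs.length) (h : testW (bs.map Fin.val) sp = true) :
    testW ((bs.map (sig α)).map Fin.val) sp = true := by
  refine List.all_eq_true.2 fun e he => ?_
  have h1 := List.all_eq_true.1 h e he
  let l : List (Fin 315) := e.1.map fun i => bs.getD i ⟨0, by omega⟩
  have key : ∀ cs : List (Fin 315), cs.length = bs.length →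
      rWord (cs.map Fin.val) e.1 = (e.1.map fun i => cs.getD i ⟨0, by omega⟩).map fun i : Fin 315 => rtab i := by
    intro cs hcs
    rw [rWord, List.map_map]
    refine List.map_congr_left fun i hi => ?_
    have := hw e he i hi
    simp [Function.comp, List.getD_eq_getElem?_getD, List.getElem?_map, List.getElem?_eq_getElem (hcs ▸ this)]
  rw [key bs rfl] at h1
  rw [key (bs.map (sig α)) (List.length_map _)]
  have hl : (e.1.map fun i => (bs.map (sig α)).getD i ⟨0, by omega⟩) = l.map (sig α) := by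
    rw [List.map_map]
    refine List.map_congr_left fun i hi => ?_
    have := hw e he i hi
    simp [Function.comp, List.getD_eq_getElem?_getD, List.getElem?_map, List.getElem?_eq_getElem this]
  rw [hl, powId_iff (rProd_rel _), ← rProd_map, ← map_pow, (powId_iff (rProd_rel l) _).1 h1, map_one]

abbrev p0 : Fin 315 := ⟨0, by omega⟩
abbrev p91 : Fin 315 := ⟨91, by omega⟩
abbrev p11 : Fin 315 := ⟨11, by omega⟩
abbrev p6 : Fin 315 := ⟨6, by omega⟩

/-- An automorphism is determined by its values on the four chosen reflections. -/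
theorem aut_ext {α β : MulAut G315} (h0 : sig α p0 = sig β p0) (h1 : sig α p91 = sig β p91)
    (h2 : sig α p11 = sig β p11) (h3 : sig α p6 = sig β p6) : α = β := by
  have hr : ∀ k : Fin 4, α ⟨phi (genJ k), genJ k, rfl⟩ = β ⟨phi (genJ k), genJ k, rfl⟩ := by
    intro k
    have hok := List.all_eq_true.1 word_gens_ok k.val (List.mem_range.2 k.2)
    simp only [Bool.and_eq_true] at hok
    have hlt : ∀ a ∈ autWord.getD k.val [], a < 315 ∧ ∀ h, sig α ⟨a, h⟩ = sig β ⟨a, h⟩ := by
      intro a ha
      obtain ⟨b, hb, he⟩ := List.any_eq_true.1 (List.all_eq_true.1 hok.1 a ha)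
      obtain rfl := Nat.eq_of_beq_eq_true he
      simp only [aPts, List.mem_cons, List.not_mem_nil, or_false] at hb
      rcases hb with rfl | rfl | rfl | rfl
      · exact ⟨by omega, fun _ => h0⟩
      · exact ⟨by omega, fun _ => h1⟩
      · exact ⟨by omega, fun _ => h2⟩
      · exact ⟨by omega, fun _ => h3⟩
    let l : List (Fin 315) := (autWord.getD k.val []).attach.map fun a => ⟨a.1, (hlt a.1 a.2).1⟩
    have hl : l.map (fun i : Fin 315 => rtab i) = (autWord.getD k.val []).map rtab := by
      simp only [l, List.map_map, Function.comp_def]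
      exact List.attach_map_val
    have hg : (⟨phi (genJ k), genJ k, rfl⟩ : G315) = rProd l :=
      G_eq (RelL.single (genTab_rel k)) (rProd_rel l) (hl ▸ hok.2)
    rw [hg, rProd_map, rProd_map]
    congr 1
    refine List.map_congr_left fun i hi => ?_
    obtain ⟨a, -, rfl⟩ := List.mem_map.1 hi
    exact (hlt a.1 a.2).2 _
  apply MulEquiv.ext
  rintro ⟨g, hg⟩
  have hg' : g ∈ Subgroup.closure (Set.range fun k => phi (genJ k)) := G315_eq ▸ hg
  induction hg' using Subgroup.closure_induction with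
  | mem y hy => obtain ⟨k, rfl⟩ := hy; exact hr k
  | one => exact (map_one α).trans (map_one β).symm
  | mul a b ha hb iha ihb =>
    have ha' : a ∈ G315 := G315_eq.symm ▸ ha
    have hb' : b ∈ G315 := G315_eq.symm ▸ hb
    have e : (⟨a * b, hg⟩ : G315) = ⟨a, ha'⟩ * ⟨b, hb'⟩ := rfl
    rw [e, map_mul, map_mul, iha ha', ihb hb']
  | inv a ha iha =>
    have ha' : a ∈ G315 := G315_eq.symm ▸ ha
    have e : (⟨a⁻¹, hg⟩ : G315) = ⟨a, ha'⟩⁻¹ := rfl
    rw [e, map_inv, map_inv, iha ha']

theorem sp2_len : ∀ e ∈ spec2, ∀ i ∈ e.1, i < 3 := by decide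
theorem sp3_len : ∀ e ∈ spec3, ∀ i ∈ e.1, i < 4 := by decide

theorem normalise (α : MulAut G315) : ∃ i < 160, ∃ l < 24,
    (el (toZero.getD (sig α p0).val 0) : P315) (sig α p91) = ⟨oPts.getD i 0 % 315, Nat.mod_lt _ (by omega)⟩ ∧
    (((el (toNinetyOne.getD (oPts.getD i 0 % 315) 0) * el (toZero.getD (sig α p0).val 0) : G315) : P315) (sig α p11)).val
      = (leaves.getD l (0, 0)).1 ∧
    (((el (toNinetyOne.getD (oPts.getD i 0 % 315) 0) * el (toZero.getD (sig α p0).val 0) : G315) : P315) (sig α p6)).val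
      = (leaves.getD l (0, 0)).2 := by
  set g := el (toZero.getD (sig α p0).val 0) with hgdef
  have hz := List.all_eq_true.1 toZero_ok _ (List.mem_range.2 (sig α p0).2)
  simp only [Bool.and_eq_true] at hz
  have hg0 : sig (MulAut.conj g * α) p0 = p0 := by
    rw [sig_conj]
    exact Fin.ext ((el_rel hz.1 _).trans (Nat.eq_of_beq_eq_true hz.2))
  set β := MulAut.conj g * α with hβ
  set x := sig β p91 with hxdef
  have hxg : (g : P315) (sig α p91) = x := (sig_conj g α p91).symm
  have ho := oPts_ok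
  simp only [Bool.and_eq_true] at ho
  have hox := List.all_eq_true.1 ho.2 x.val (List.mem_range.2 x.2)
  simp only [Bool.or_eq_true, Bool.not_eq_true', Bool.and_eq_true] at hox
  have hp : powId [rtab 0, rtab x.val] 3 = true := by
    have h1 := test_map β [p0, p91] [([0, 1], 3)] (by decide)
      (by simp [testW, rWord, base_pair_ok])
    simp only [List.map_cons, List.map_nil, hg0, ← hxdef] at h1
    simpa [testW, rWord] using h1
  rcases hox with (hox | hox) | ⟨⟨⟨hmem, hv⟩, hh0⟩, hh91⟩
  · exact absurd (sig_injective β (hg0.trans (Fin.ext (Nat.eq_of_beq_eq_true hox).symm))) (by decide)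
  · rw [hp] at hox; exact absurd hox (by simp)
  obtain ⟨b, hb, he⟩ := List.any_eq_true.1 hmem
  obtain ⟨i, hi, rfl⟩ := List.mem_iff_getElem.1 hb
  have hxi : oPts.getD i 0 % 315 = x.val := by
    rw [List.getD_eq_getElem _ _ hi, ← Nat.eq_of_beq_eq_true he, Nat.mod_eq_of_lt x.2]
  set h := el (toNinetyOne.getD x.val 0) with hhdef
  set γ := MulAut.conj (h * g) * α with hγ
  have hs : ∀ p, sig γ p = (h : P315) (sig β p) := fun p => by
    rw [hγ, hβ, sig_conj, sig_conj, Subgroup.coe_mul, Equiv.Perm.mul_apply]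
  have hγ0 : sig γ p0 = p0 := by
    rw [hs, hg0]; exact Fin.ext ((el_rel hv _).trans (Nat.eq_of_beq_eq_true hh0))
  have hγ91 : sig γ p91 = p91 := by
    rw [hs]; exact Fin.ext ((el_rel hv _).trans (Nat.eq_of_beq_eq_true hh91))
  have ht := aPts_test
  simp only [Bool.and_eq_true] at ht
  have ht2 : testW [0, 91, (sig γ p11).val] spec2 = true := by
    have := test_map γ [p0, p91, p11] spec2 sp2_len (by
      refine List.all_eq_true.2 fun e he => ?_
      have h2 := List.all_eq_true.1 ht.1 e he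
      have : rWord ([p0, p91, p11].map Fin.val) e.1 = rWord aPts e.1 :=
        List.map_congr_left fun i hi => by
          have := sp2_len e he i hi
          rcases (by omega : i = 0 ∨ i = 1 ∨ i = 2) with rfl | rfl | rfl <;> rfl
      rw [this]; exact h2)
    simpa only [List.map_cons, List.map_nil, hγ0, hγ91] using this
  have ht3 : testW [0, 91, (sig γ p11).val, (sig γ p6).val] spec3 = true := by
    have := test_map γ [p0, p91, p11, p6] spec3 sp3_len ht.2
    simpa only [List.map_cons, List.map_nil, hγ0, hγ91] using this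
  have hb2 := List.all_eq_true.1 bPts_ok _ (List.mem_range.2 (sig γ p11).2)
  rw [ht2, Bool.not_true, Bool.false_or] at hb2
  obtain ⟨b, hbm, hbe⟩ := List.any_eq_true.1 hb2
  obtain rfl := Nat.eq_of_beq_eq_true hbe
  have hl := leaves_ok
  simp only [Bool.and_eq_true] at hl
  have hl2 := List.all_eq_true.1 (List.all_eq_true.1 hl.2 _ hbm) _ (List.mem_range.2 (sig γ p6).2)
  rw [ht3, Bool.not_true, Bool.false_or] at hl2
  obtain ⟨e, hem, hee⟩ := List.any_eq_true.1 hl2
  rw [Bool.and_eq_true] at hee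
  obtain ⟨l, hll, rfl⟩ := List.mem_iff_getElem.1 hem
  have hlt : oPts.length = 160 := Nat.eq_of_beq_eq_true ho.1
  have hlt2 : leaves.length = 24 := Nat.eq_of_beq_eq_true hl.1
  refine ⟨i, hlt ▸ hi, l, hlt2 ▸ hll, ?_, ?_, ?_⟩
  · exact hxg.trans (Fin.ext hxi.symm)
  · rw [hxi, List.getD_eq_getElem _ _ hll, Nat.eq_of_beq_eq_true hee.1, hγ, sig_conj]
  · rw [hxi, List.getD_eq_getElem _ _ hll, Nat.eq_of_beq_eq_true hee.2, hγ, sig_conj]

theorem finite_aut : Finite (MulAut G315) := inferInstance

theorem card_aut_le : Nat.card (MulAut G315) ≤ 1209600 := by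
  choose I hI L hL h1 h2 h3 using normalise
  let f : MulAut G315 → Fin 315 × Fin 160 × Fin 24 := fun α => (sig α p0, ⟨I α, hI α⟩, ⟨L α, hL α⟩)
  have hf : Function.Injective f := by
    intro α β h
    simp only [f, Prod.mk.injEq, Fin.mk.injEq] at h
    obtain ⟨e0, ei, el'⟩ := h
    refine aut_ext e0 ?_ ?_ ?_
    · have a := h1 α; have b := h1 β
      rw [e0, ei] at a
      exact Equiv.injective _ (a.trans b.symm)
    · have a := h2 α; have b := h2 β
      rw [e0, ei, el'] at a
      exact Equiv.injective _ (Fin.ext (a.trans b.symm))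
    · have a := h3 α; have b := h3 β
      rw [e0, ei, el'] at a
      exact Equiv.injective _ (Fin.ext (a.trans b.symm))
  refine (Nat.card_le_card_of_injective f hf).trans ?_
  simp [Nat.card_prod, Nat.card_fin]

/-- The permutation inducing the outer automorphism. -/
def tau : P315 where
  toFun i := ⟨ap tauTab i, by
    have := List.all_eq_true.1 tau_ok i.val (List.mem_range.2 i.2)
    simp only [Bool.and_eq_true, Nat.blt_eq] at this
    exact this.1.1.1⟩
  invFun i := ⟨ap tauInvTab i, by
    have := List.all_eq_true.1 tau_ok i.val (List.mem_range.2 i.2)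
    simp only [Bool.and_eq_true, Nat.blt_eq] at this
    exact this.1.1.2⟩
  left_inv i := by
    have := List.all_eq_true.1 tau_ok i.val (List.mem_range.2 i.2)
    simp only [Bool.and_eq_true, Nat.blt_eq] at this
    exact Fin.ext (Nat.eq_of_beq_eq_true this.2)
  right_inv i := by
    have := List.all_eq_true.1 tau_ok i.val (List.mem_range.2 i.2)
    simp only [Bool.and_eq_true, Nat.blt_eq] at this
    exact Fin.ext (Nat.eq_of_beq_eq_true this.1.2)

theorem tau_gen (k : Fin 4) :
    tau * phi (genJ k) * tau⁻¹ = (reflP (tau ⟨gidx k, genI_lt k.2⟩) : P315) := by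
  refine Equiv.ext fun i => Fin.ext ?_
  have := List.all_eq_true.1 (List.all_eq_true.1 tau_gens_ok k.val (List.mem_range.2 k.2)) i.val (List.mem_range.2 i.2)
  rw [Equiv.Perm.mul_apply, Equiv.Perm.mul_apply, rtab_rel]
  show ap tauTab ((phi (genJ k)) (tau⁻¹ i)).val = _
  rw [genTab_rel k]
  exact Nat.eq_of_beq_eq_true this

theorem tau_map : G315.map (MulAut.conj tau : P315 ≃* P315).toMonoidHom = G315 := by
  have hle : G315.map (MulAut.conj tau : P315 ≃* P315).toMonoidHom ≤ G315 := by
    rw [Subgroup.map_le_iff_le_comap]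
    conv_lhs => rw [G315_eq]
    rw [Subgroup.closure_le]
    rintro _ ⟨k, rfl⟩
    show tau * phi (genJ k) * tau⁻¹ ∈ G315
    rw [tau_gen]
    exact SetLike.coe_mem _
  refine Subgroup.eq_of_le_of_card_ge hle ?_
  rw [Nat.card_congr (Subgroup.equivMapOfInjective G315 _ (MulAut.conj tau).injective).toEquiv.symm]

/-- The outer automorphism. -/
noncomputable def outAut : MulAut G315 :=
  ((MulAut.conj tau : P315 ≃* P315).subgroupMap G315).trans (MulEquiv.subgroupCongr tau_map)

theorem outAut_val (g : G315) : (outAut g : P315) = tau * g * tau⁻¹ := rfl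

theorem outAut_not_inner : outAut ∉ Cfsg.Inn G315 := by
  rintro ⟨g, hg⟩
  have hgen : ∀ k : Fin 4, (g : P315) ⟨gidx k, genI_lt k.2⟩ = tau ⟨gidx k, genI_lt k.2⟩ := by
    intro k
    refine reflP_injective (Subtype.ext ?_)
    rw [← conj_reflPG, ← MulAut.conj_apply, hg, outAut_val, reflP_gidx, tau_gen]
  have hc : ∀ h : G315, (tau⁻¹ * g) * (h : P315) = (h : P315) * (tau⁻¹ * g) := by
    intro h
    have := congrArg Subtype.val (DFunLike.congr_fun hg h)
    rw [MulAut.conj_apply, outAut_val, Subgroup.coe_mul, Subgroup.coe_mul, Subgroup.coe_inv] at this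
    calc tau⁻¹ * g * (h : P315) = tau⁻¹ * ((g : P315) * h * (g : P315)⁻¹) * g := by group
      _ = (h : P315) * (tau⁻¹ * g) := by rw [this]; group
  have hfix : ∀ i : Fin 315, (g : P315) i = tau i := by
    intro i
    obtain ⟨h, hh⟩ := G_trans i
    obtain ⟨h₁, hh₁⟩ := G_trans ⟨gidx (0 : Fin 4), genI_lt (0 : Fin 4).2⟩
    have hi : ((h⁻¹ * h₁ : G315) : P315) ⟨gidx (0 : Fin 4), genI_lt (0 : Fin 4).2⟩ = i := by
      rw [Subgroup.coe_mul, Equiv.Perm.mul_apply, hh₁, Subgroup.coe_inv, Equiv.Perm.inv_eq_iff_eq, hh]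
    have := DFunLike.congr_fun (hc (h⁻¹ * h₁)) ⟨gidx (0 : Fin 4), genI_lt (0 : Fin 4).2⟩
    simp only [Equiv.Perm.mul_apply] at this
    rw [hi, hgen 0] at this
    rw [Equiv.Perm.inv_def, Equiv.symm_apply_apply, hi] at this
    rw [Equiv.symm_apply_eq] at this
    exact this
  have ht := tau_outer_ok
  simp only [Bool.and_eq_true] at ht
  have hg0 : g ∈ stab0 := mem_stab0.2 (by rw [hfix]; exact Fin.ext (Nat.eq_of_beq_eq_true ht.1))
  obtain ⟨c, hc', hcr⟩ := mem_codesBelow below below_props.1 below_props.2.1 below_props.2.2.2 _ (stab0_lev hg0)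
  have h := List.all_eq_true.1 ht.2 c hc'
  rw [Bool.not_eq_true'] at h
  rw [← Bool.not_eq_true, List.all_eq_true] at h
  refine h fun a ha => ?_
  have hlt : a < 315 := by
    simp only [aPts, List.mem_cons, List.not_mem_nil, or_false] at ha
    omega
  have := hcr ⟨a, hlt⟩
  rw [hfix] at this
  exact (show (tau ⟨a, hlt⟩).val = ap tauTab a from rfl) ▸ this ▸ Nat.beq_refl _

theorem conjG_injective : Function.Injective (MulAut.conj : G315 →* MulAut G315) := by
  intro g h e
  refine Subtype.ext (Equiv.ext fun i => reflP_injective ?_)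
  rw [← conj_reflPG, ← conj_reflPG, ← MulAut.conj_apply, ← MulAut.conj_apply, e]

theorem card_out_G315 : Nat.card (Cfsg.Out G315) = 2 := by
  have hinn : Nat.card (Cfsg.Inn G315) = 604800 := by
    rw [← Nat.card_congr (MonoidHom.ofInjective conjG_injective).toEquiv, card_G315]
  have hmul := Subgroup.card_eq_card_quotient_mul_card_subgroup (Cfsg.Inn G315)
  have hle := card_aut_le
  rw [hmul, hinn] at hle
  have h1 : 1 < Nat.card (Cfsg.Out G315) := by
    by_contra hlt
    rw [not_lt, Finite.card_le_one_iff_subsingleton] at hlt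
    haveI := hlt
    exact outAut_not_inner ((QuotientGroup.eq_one_iff _).1 (Subsingleton.elim
      (QuotientGroup.mk outAut : Cfsg.Out G315) 1))
  change 1 < Nat.card (MulAut G315 ⧸ Cfsg.Inn G315) at h1
  show Nat.card (MulAut G315 ⧸ Cfsg.Inn G315) = 2
  omega

theorem card_out_congr {X Y : Type} [Group X] [Group Y] (e : X ≃* Y) :
    Nat.card (Cfsg.Out X) = Nat.card (Cfsg.Out Y) := by
  refine Nat.card_congr (QuotientGroup.congr (Cfsg.Inn X) (Cfsg.Inn Y) (MulAut.congr e) ?_).toEquiv
  ext β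
  constructor
  · rintro ⟨_, ⟨x, rfl⟩, rfl⟩
    exact ⟨e x, MulEquiv.ext fun y => by simp [MulAut.congr, MulAut.conj_apply]⟩
  · rintro ⟨y, rfl⟩
    exact ⟨_, ⟨e.symm y, rfl⟩, MulEquiv.ext fun z => by simp [MulAut.congr, MulAut.conj_apply]⟩

end CfsgLib.J2
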