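import Cfsg.Agent.J2.CentData
import Cfsg.Agent.CoprimeAction.Frattini
import Cfsg.Prelude.Def_Transfer

/-!
# The centraliser of a reflection in `J₂`
-/

set_option autoImplicit false
set_option maxRecDepth 100000

namespace CfsgLib.J2

open scoped commutatorElement Pointwise
open Quaternion Cfsg.Spor

/-- Criterion for an extraspecial 2-group, transported along an isomorphism. -/
theorem extraspecial_transfer {K L : Type*} [Group K] [Group L] [Finite K] [Finite L] (e : K ≃* L) (hp : Nat.card L = 32)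
    (hcard : Nat.card (Subgroup.center L) = 2) (hle : ∀ a b : L, a * b * a⁻¹ * b⁻¹ ∈ Subgroup.center L)
    (hsq : ∀ a : L, a * a ∈ Subgroup.center L) (hna : ∃ a b : L, a * b ≠ b * a) : Cfsg.IsExtraspecial 2 K := by
  haveI : Fact (Nat.Prime 2) := ⟨Nat.prime_two⟩
  have hKp : IsPGroup 2 K := IsPGroup.of_card (n := 5) ((Nat.card_congr e.toEquiv).trans hp)
  have hmem : ∀ x : K, x ∈ Subgroup.center K ↔ e x ∈ Subgroup.center L := by
    intro x
    simp only [Subgroup.mem_center_iff]
    exact ⟨fun h y => by have := congrArg e (h (e.symm y)); simpa using this,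
      fun h y => e.injective (by simpa using h (e y))⟩
  have hcK : Nat.card (Subgroup.center K) = 2 := by
    rw [← hcard]
    exact Nat.card_congr (e.toEquiv.subtypeEquiv fun x => hmem x)
  have hle' : commutator K ≤ Subgroup.center K := by
    rw [commutator_def, Subgroup.commutator_le]
    intro a _ b _
    rw [hmem, commutatorElement_def]
    simpa using hle (e a) (e b)
  have hcomm : commutator K = Subgroup.center K := by
    refine le_antisymm hle' ?_
    obtain ⟨a, b, hab⟩ := hna
    have hm : ⁅e.symm a, e.symm b⁆ ∈ commutator K :=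
      Subgroup.commutator_mem_commutator (Subgroup.mem_top _) (Subgroup.mem_top _)
    have hm1 : ⁅e.symm a, e.symm b⁆ ≠ 1 := fun h => hab (by
      have := congrArg e (commutatorElement_eq_one_iff_mul_comm.1 h)
      simpa using this)
    intro c hc
    obtain ⟨u, hu, huniq⟩ := (Nat.card_eq_two_iff' (1 : Subgroup.center K)).1 hcK
    rcases eq_or_ne c 1 with rfl | hc1
    · exact one_mem _
    have e1 : (⟨_, hle' hm⟩ : Subgroup.center K) = u := huniq _ fun h => hm1 (congrArg Subtype.val h)
    have e2 : (⟨c, hc⟩ : Subgroup.center K) = u := huniq _ fun h => hc1 (congrArg Subtype.val h)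
    rw [show c = ⁅e.symm a, e.symm b⁆ from congrArg Subtype.val (e2.trans e1.symm)]
    exact hm
  refine ⟨⟨hKp, le_antisymm ?_ ?_, hcomm⟩, hcK⟩
  · exact CfsgLib.CoprimeAction.frattini_le_of_elementary (p := 2) _ hle' fun a => by
      rw [pow_two, hmem, map_mul]; exact hsq (e a)
  · rw [← hcomm]
    exact CfsgLib.CoprimeAction.commutator_le_frattini' hKp

/-- The image of a reflection. -/
noncomputable def reflP (i : Fin 315) : G315 := ⟨phi ⟨refl i, refl_mem i⟩, _, rfl⟩

theorem conj_reflP (x : twoJ2) (i : Fin 315) :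
    (⟨phi x, x, rfl⟩ : G315) * reflP i * (⟨phi x, x, rfl⟩ : G315)⁻¹ = reflP (phi x i) := by
  apply Subtype.ext
  simp only [reflP, Subgroup.coe_mul, Subgroup.coe_inv]
  rw [← map_inv, ← map_mul, ← map_mul]
  congr 1
  apply Subtype.ext
  simp only [Subgroup.coe_mul, Subgroup.coe_inv]
  rw [phi_apply]
  exact lineMap_spec x i

theorem negated_unique {j : Fin 315}
    (h1 : qrefl (vec (line j)) (vec (line 1)) = -vec (line 1))
    (h2 : qrefl (vec (line j)) (vec (line 2)) = -vec (line 2)) : False := by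
  have h := List.all_eq_true.1 two_negated_ok j.val (List.mem_range.2 j.2)
  simp only [Bool.and_eq_true, Bool.or_eq_true, Bool.not_eq_true', decide_eq_false_iff_not] at h
  have hn : ∀ w : V3, -vec w = vec (w.1.neg, w.2.1.neg, w.2.2.neg) := by
    intro w; funext t; fin_cases t <;> simp [vec, val_neg]
  have i1 := line_isI3 (show (1 : ℕ) < 315 by omega)
  have i2 := line_isI3 (show (2 : ℕ) < 315 by omega)
  rcases h.2 with h3 | h3
  · exact h3 (vec_inj (by rw [vec_reflQ i1 (line_isI3 j.2) h.1.1, h1, hn]))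
  · exact h3 (vec_inj (by rw [vec_reflQ i2 (line_isI3 j.2) h.1.2, h2, hn]))

theorem reflP_zero_unique {j : Fin 315} (h : reflP j = reflP ⟨0, by omega⟩) : j = ⟨0, by omega⟩ := by
  have h' : phi ⟨refl j, refl_mem j⟩ = phi ⟨refl ⟨0, by omega⟩, refl_mem _⟩ := congrArg Subtype.val h
  have hw : (⟨refl j, refl_mem j⟩ : twoJ2)⁻¹ * ⟨refl ⟨0, by omega⟩, refl_mem _⟩ ∈ Subgroup.center twoJ2 := by
    rw [← phi_eq_one_iff, map_mul, map_inv, h', inv_mul_cancel]
  obtain ⟨c, hc, hx⟩ := center_scalar _ hw
  have hinv : ∀ i : Fin 315, (refl i)⁻¹ = refl i := fun i => by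
    rw [inv_eq_iff_mul_eq_one]
    exact Equiv.ext fun x => Subtype.ext (qrefl_qrefl (line_qip i.2) _)
  have hcs : ∀ x : icoLeech, qrefl (vec (line j)) (qrefl (vec (line 0)) x) = c • (x : Fin 3 → ℍ[ℝ]) := by
    intro x
    have := hx x
    rw [Subgroup.coe_mul, Subgroup.coe_inv, hinv, Equiv.Perm.mul_apply, refl_apply, refl_apply] at this
    exact this
  rcases hc with rfl | rfl
  · refine refl_injective (Equiv.ext fun x => Subtype.ext ?_)
    have := hcs (refl ⟨0, by omega⟩ x)
    rw [refl_apply, qrefl_qrefl (line_qip (show (0 : ℕ) < 315 by omega)), one_smul] at this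
    rw [refl_apply, refl_apply]
    exact this
  · exfalso
    have hl : line 0 = (⟨4, 0, 0, 0, 0, 0, 0, 0⟩, Q8.zero, Q8.zero) ∧
        line 1 = (Q8.zero, ⟨4, 0, 0, 0, 0, 0, 0, 0⟩, Q8.zero) ∧
        line 2 = (Q8.zero, Q8.zero, ⟨4, 0, 0, 0, 0, 0, 0, 0⟩) := by decide +kernel
    have k1 : qrefl (vec (line 0)) (vec (line 1)) = vec (line 1) := by
      rw [hl.1, hl.2.1]
      funext t
      fin_cases t <;> simp [qrefl_eq, qip, Fin.sum_univ_three, vec, val_zero]
    have k2 : qrefl (vec (line 0)) (vec (line 2)) = vec (line 2) := by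
      rw [hl.1, hl.2.2]
      funext t
      fin_cases t <;> simp [qrefl_eq, qip, Fin.sum_univ_three, vec, val_zero]
    refine negated_unique (j := j) ?_ ?_
    · have := hcs ⟨_, vec_mem (line_ok (show (1 : ℕ) < 315 by omega)).1⟩
      simpa [k1] using this
    · have := hcs ⟨_, vec_mem (line_ok (show (2 : ℕ) < 315 by omega)).1⟩
      simpa [k2] using this

theorem below_props : chainOk below = true ∧ GensIn (topGens below) ∧
    (∀ h ∈ levGrp (topGens below), h (⟨0, by omega⟩ : Fin 315) = ⟨0, by omega⟩) ∧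
    (∀ L ∈ below, L.tabs.length < 512) := by
  have key : ∀ (L : Lev) (r : List Lev), chainOk (L :: r) = true → GensIn L.gens → L.pt = 0 →
      chainOk r = true ∧ GensIn (topGens r) ∧
        (∀ h ∈ levGrp (topGens r), h (⟨0, by omega⟩ : Fin 315) = ⟨0, by omega⟩) := by
    intro L r hok hin hpt
    simp only [chainOk, Bool.and_eq_true] at hok
    exact ⟨hok.2, hin.sub hok.1.1.2, fix_next hok.1.2 hpt.symm⟩
  obtain ⟨h1, h2, h3⟩ := key _ below chain_ok gensIn_top rfl
  exact ⟨h1, h2, h3, fun L hL => by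
    simpa [Nat.blt_eq] using List.all_eq_true.1 chain_small L (List.mem_cons_of_mem _ hL)⟩

/-- The line stabiliser, as a subgroup. -/
noncomputable def stab0 : Subgroup G315 := Subgroup.centralizer ({reflP ⟨0, by omega⟩} : Set G315)

theorem mem_stab0 {g : G315} : g ∈ stab0 ↔ (g : P315) ⟨0, by omega⟩ = ⟨0, by omega⟩ := by
  obtain ⟨_, x, rfl⟩ := g
  rw [stab0, Subgroup.mem_centralizer_singleton_iff]
  constructor
  · intro h
    refine reflP_zero_unique ?_
    rw [← conj_reflP]
    rw [h, mul_inv_cancel_right]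
  · intro h
    have := conj_reflP x ⟨0, by omega⟩
    rw [h, mul_inv_eq_iff_eq_mul] at this
    exact this

theorem stab0_lev {g : G315} (hg : g ∈ stab0) : (g : P315) ∈ levGrp (topGens below) := by
  rw [mem_stab0] at hg
  have hok : chainOk chain = true := chain_ok
  obtain ⟨k, hk, t, ht, h, hh, e⟩ :=
    level_decomp (L := chain.head (List.cons_ne_nil _ _)) (r := below) hok gensIn_top g (levGrp_top.symm ▸ g.2)
  simp only [chainOk, chain, Bool.and_eq_true] at hok
  have h0 := fix_next (L := chain.head (List.cons_ne_nil _ _)) (r := below) hok.1.2 (p := ⟨0, by omega⟩) rfl h hh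
  rw [e, Equiv.Perm.mul_apply, h0] at hg
  have hd := hok.1.1.1.1.2
  have hid := hok.1.1.1.1.1.2
  simp only [treeOk, Bool.and_eq_true] at hid
  have ht0 : ap (tabs0.getD k 0) 0 = 0 := by
    have := congrArg Fin.val hg
    rw [ht] at this
    exact this
  have hi0 : ap (tabs0.getD 0 0) 0 = 0 :=
    Nat.eq_of_beq_eq_true (List.all_eq_true.1 hid.1 0 (List.mem_range.2 (by omega)))
  have hk' : k < tabs0.length := hk
  have := List.all_eq_true.1 (List.all_eq_true.1 hd k (List.mem_range.2 hk')) 0 (List.mem_range.2 (by omega))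
  rw [ht0, hi0, Nat.beq_refl, Bool.not_true, Bool.or_false] at this
  have hk0 : k = 0 := Nat.eq_of_beq_eq_true this
  subst hk0
  have ht1 : t = 1 := by
    refine Equiv.ext fun i => Fin.ext ?_
    rw [ht]
    exact Nat.eq_of_beq_eq_true (List.all_eq_true.1 hid.1 i.val (List.mem_range.2 i.2))
  rw [e, ht1, one_mul]; exact hh

theorem orth_lt {a : ℕ} (ha : a ∈ orthPts) : a < 315 := by
  simpa [Nat.blt_eq] using List.all_eq_true.1 orth_ok.1 a ha

theorem bfst_spec {i : ℕ} (hi : i < 5) : bfst i ∈ orthPts ∧ bix (bfst i) = i := by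
  have h := List.all_eq_true.1 orth_ok.2 i (List.mem_range.2 hi)
  simp only [Bool.and_eq_true] at h
  obtain ⟨x, hx, he⟩ := List.any_eq_true.1 h.1
  exact ⟨Nat.eq_of_beq_eq_true he ▸ hx, Nat.eq_of_beq_eq_true h.2⟩

theorem bix_lt (a : ℕ) : bix a < 5 := Nat.mod_lt _ (by omega)

/-- Respects the blocks. -/
def Good (h : P315) : Prop := ∀ a (ha : a ∈ orthPts), (h ⟨a, orth_lt ha⟩).val ∈ orthPts ∧
  bix (h ⟨a, orth_lt ha⟩).val = bix (h ⟨bfst (bix a), orth_lt (bfst_spec (bix_lt a)).1⟩).val

theorem good_mul {g h : P315} (hg : Good g) (hh : Good h) : Good (g * h) := by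
  intro a ha
  obtain ⟨h1, h2⟩ := hh a ha
  obtain ⟨h3, h4⟩ := hg _ h1
  have hb := (bfst_spec (bix_lt a)).1
  obtain ⟨h5, -⟩ := hh _ hb
  obtain ⟨-, h6⟩ := hg _ h5
  refine ⟨h3, ?_⟩
  simp only [Equiv.Perm.mul_apply]
  refine h4.trans (Eq.trans ?_ h6.symm)
  simp only [h2]

theorem lev_good {h : P315} (hh : h ∈ levGrp (topGens below)) : Good h := by
  have hone : Good 1 := fun a ha => ⟨ha, ((bfst_spec (bix_lt a)).2).symm⟩
  have hgen : ∀ s ∈ {g : P315 | ∃ t ∈ topGens below, Rel g t}, Good s := by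
    rintro s ⟨t, ht, hs⟩ a ha
    have h := List.all_eq_true.1 (List.all_eq_true.1 below_good t ht) a ha
    simp only [Bool.and_eq_true] at h
    rw [hs, hs]
    obtain ⟨x, hx, he⟩ := List.any_eq_true.1 h.1
    have hxa : x = apL [t] a := Nat.eq_of_beq_eq_true he
    exact ⟨show apL [t] a ∈ orthPts from hxa ▸ hx, Nat.eq_of_beq_eq_true h.2⟩
  induction hh using Subgroup.closure_induction_left with
  | one => exact hone
  | mul_left s hs y _ ih => exact good_mul (hgen s hs) ih
  | inv_mul_cancel s hs y _ ih =>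
    have hpow : ∀ n : ℕ, Good (s ^ n * y) := by
      intro n
      induction n with
      | zero => simpa using ih
      | succ n ihn => rw [pow_succ', mul_assoc]; exact good_mul (hgen s hs) ihn
    have he : s⁻¹ = s ^ (orderOf s - 1) := by
      refine inv_eq_of_mul_eq_one_right ?_
      rw [← pow_succ', Nat.sub_add_cancel (orderOf_pos s), pow_orderOf_eq_one]
    rw [he]; exact hpow _

/-- The image of a block. -/
noncomputable def bmap (g : stab0) (i : Fin 5) : Fin 5 :=
  ⟨bix (((g : G315) : P315) ⟨bfst i, orth_lt (bfst_spec i.2).1⟩).val, bix_lt _⟩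

noncomputable instance : MulAction stab0 (Fin 5) where
  smul := bmap
  one_smul i := Fin.ext (bfst_spec i.2).2
  mul_smul g h i := by
    refine Fin.ext ?_
    obtain ⟨h1, -⟩ := lev_good (stab0_lev h.2) _ (bfst_spec i.2).1
    exact (lev_good (stab0_lev g.2) _ h1).2

/-- The action on the five frames. -/
noncomputable def psi : stab0 →* Equiv.Perm (Fin 5) := MulAction.toPermHom stab0 (Fin 5)

theorem psi_val (g : stab0) (i : Fin 5) :
    (psi g i).val = bix (((g : G315) : P315) ⟨bfst i, orth_lt (bfst_spec i.2).1⟩).val := rfl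

theorem psi_even (g : stab0) : Equiv.Perm.sign (psi g) = 1 := by
  have key : ∀ x ∈ levGrp (topGens below), ∀ y : stab0, ((y : G315) : P315) = x → Equiv.Perm.sign (psi y) = 1 := by
    have hgen : ∀ s ∈ {g : P315 | ∃ t ∈ topGens below, Rel g t}, ∀ y : stab0, ((y : G315) : P315) = s →
        Equiv.Perm.sign (psi y) = 1 := by
      rintro s ⟨t, ht, hs⟩ y rfl
      obtain ⟨k, hk, rfl⟩ := List.mem_iff_getElem.1 ht
      refine below_even k hk _ fun i => ?_
      rw [psi_val, hs, List.getD_eq_getElem _ _ hk]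
      rfl
    intro x hx
    have hG : levGrp (topGens below) ≤ G315 := levGrp_le below_props.2.1
    have hfix := below_props.2.2.1
    induction hx using Subgroup.closure_induction with
    | mem s hs => exact hgen s hs
    | one =>
      intro y hy
      rw [show y = 1 from Subtype.ext (Subtype.ext hy), map_one, map_one]
    | mul a b ha hb iha ihb =>
      intro y hy
      have e : y = (⟨⟨a, hG ha⟩, mem_stab0.2 (hfix a ha)⟩ : stab0) * ⟨⟨b, hG hb⟩, mem_stab0.2 (hfix b hb)⟩ :=
        Subtype.ext (Subtype.ext hy)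
      rw [e, map_mul, map_mul, iha _ rfl, ihb _ rfl, one_mul]
    | inv a ha iha =>
      intro y hy
      have e : y = (⟨⟨a, hG ha⟩, mem_stab0.2 (hfix a ha)⟩ : stab0)⁻¹ := Subtype.ext (Subtype.ext hy)
      rw [e, map_inv, map_inv, iha _ rfl, inv_one]
  exact key _ (stab0_lev g.2) g rfl

theorem qCodes_valid {k : ℕ} (hk : k < qCodes.length) : valid (qCodes.getD k 0) = true := by
  have h := q_ok
  simp only [sylOk, Bool.and_eq_true] at h
  rw [List.getD_eq_getElem _ _ hk]; exact List.all_eq_true.1 h.1.1.1.1.1.1.1 _ (List.getElem_mem hk)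

theorem ker_mem {g : stab0} : g ∈ psi.ker ↔ (g : G315) ∈ cloG qGens := by
  obtain ⟨-, hall⟩ := syl_spec q_ok
  constructor
  · intro h
    have hlev := stab0_lev g.2
    obtain ⟨c, hc, hr⟩ := mem_codesBelow below below_props.1 below_props.2.1 below_props.2.2.2 _ hlev
    have hk := List.all_eq_true.1 ker_ok c hc
    have htriv : actTriv (decodeTail below c) = true := by
      refine List.all_eq_true.2 fun i hi => ?_
      have hi5 : i < 5 := List.mem_range.1 hi
      have h1 := congrArg Fin.val (DFunLike.congr_fun (MonoidHom.mem_ker.1 h) (⟨i, hi5⟩ : Fin 5))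
      rw [psi_val, hr] at h1
      exact Nat.beq_eq ▸ h1
    rw [htriv, Bool.not_true, Bool.false_or, List.any_eq_true] at hk
    obtain ⟨d, hd, he⟩ := hk
    obtain ⟨k, hk, rfl⟩ := List.mem_iff_getElem.1 hd
    have hv := qCodes_valid hk
    rw [List.getD_eq_getElem _ _ hk] at hv
    rw [G_eq hr (el_rel hv) he]
    exact q_mem_of_lt k hk
  · intro h
    obtain ⟨k, hk, e⟩ := hall _ h
    have h2 := List.all_eq_true.1 q_fix (qCodes.getD k 0) (by rw [List.getD_eq_getElem _ _ hk]; exact List.getElem_mem _)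
    simp only [Bool.and_eq_true] at h2
    rw [MonoidHom.mem_ker]
    refine Equiv.ext fun i => Fin.ext ?_
    rw [psi_val, e, el_rel (qCodes_valid hk)]
    exact Nat.eq_of_beq_eq_true (List.all_eq_true.1 h2.2 i.val (List.mem_range.2 i.2))
where
  q_mem_of_lt (k : ℕ) (hk : k < qCodes.length) : el qCodes[k] ∈ cloG qGens := by
    obtain ⟨hc, hall⟩ := syl_spec q_ok
    by_contra hne
    have hinj : Function.Injective (fun x : cloG qGens => (hall x x.2).choose) := by
      intro a b hab
      apply Subtype.ext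
      rw [(hall a a.2).choose_spec.2, (hall b b.2).choose_spec.2]
      simp only at hab
      rw [hab]
    have hmiss : ∀ x : cloG qGens, (hall x x.2).choose ≠ k := by
      intro x hx
      apply hne
      have := (hall x x.2).choose_spec.2
      rw [hx, List.getD_eq_getElem _ _ hk] at this
      rw [← this]; exact x.2
    have hlt : Nat.card (cloG qGens) ≤ Nat.card {j : Fin qCodes.length // j.val ≠ k} :=
      Nat.card_le_card_of_injective
        (fun x => ⟨⟨(hall x x.2).choose, (hall x x.2).choose_spec.1⟩, hmiss x⟩)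
        (fun a b hab => hinj (congrArg (fun y => y.1.val) hab))
    have hsm : Nat.card {j : Fin qCodes.length // j.val ≠ k} < qCodes.length := by
      conv_rhs => rw [← Fintype.card_fin qCodes.length]
      rw [Nat.card_eq_fintype_card]
      exact Fintype.card_subtype_lt (x := (⟨k, hk⟩ : Fin qCodes.length)) (by simp)
    omega

theorem cloG_le_stab : cloG qGens ≤ stab0 := by
  obtain ⟨-, hall⟩ := syl_spec q_ok
  intro g hg
  obtain ⟨k, hk, rfl⟩ := hall g hg
  have h2 := List.all_eq_true.1 q_fix (qCodes.getD k 0) (by rw [List.getD_eq_getElem _ _ hk]; exact List.getElem_mem _)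
  simp only [Bool.and_eq_true] at h2
  rw [mem_stab0]
  refine Fin.ext ?_
  rw [el_rel (qCodes_valid hk)]
  exact Nat.eq_of_beq_eq_true h2.1

/-- The kernel as a subgroup of the whole group. -/
noncomputable def kerEquiv : psi.ker ≃* cloG qGens where
  toFun g := ⟨((g : stab0) : G315), ker_mem.1 g.2⟩
  invFun g := ⟨⟨(g : G315), cloG_le_stab g.2⟩, ker_mem.2 g.2⟩
  left_inv _ := rfl
  right_inv _ := rfl
  map_mul' _ _ := rfl

theorem card_ker : Nat.card psi.ker = 32 := by
  rw [Nat.card_congr kerEquiv.toEquiv, (syl_spec q_ok).1, z_ok.2.2.2]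

theorem card_stab0 : Nat.card stab0 = 1920 := by
  have hG := below_props.2.1
  have h := card_levGrp below below_props.1 hG
  rw [show (below.map fun L => L.tabs.length).prod = 1920 by decide +kernel] at h
  have hfix := below_props.2.2.1
  rw [← h]
  exact Nat.card_congr
    { toFun := fun g => ⟨((g : G315) : P315), stab0_lev g.2⟩
      invFun := fun x => ⟨⟨(x : P315), levGrp_le hG x.2⟩, mem_stab0.2 (hfix _ x.2)⟩
      left_inv := fun _ => rfl
      right_inv := fun _ => rfl }

theorem psi_range : psi.range = alternatingGroup (Fin 5) := by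
  have hle : psi.range ≤ alternatingGroup (Fin 5) := by
    rintro _ ⟨g, rfl⟩
    exact Equiv.Perm.mem_alternatingGroup.2 (psi_even g)
  refine SetLike.coe_injective (Set.eq_of_subset_of_ncard_le hle (le_of_eq ?_) (Set.toFinite _))
  rw [← Nat.card_coe_set_eq, ← Nat.card_coe_set_eq]
  show Nat.card (alternatingGroup (Fin 5)) = Nat.card psi.range
  have h1 := Subgroup.card_mul_index psi.ker
  rw [card_ker, card_stab0, Subgroup.index_ker] at h1
  have h2 : Nat.card (alternatingGroup (Fin 5)) = 60 := by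
    rw [Nat.card_eq_fintype_card, card_alternatingGroup, Fintype.card_fin]; rfl
  omega

theorem q_extra {K : Type*} [Group K] [Finite K] (e : K ≃* cloG qGens) : Cfsg.IsExtraspecial 2 K := by
  obtain ⟨hc, hall⟩ := syl_spec q_ok
  obtain ⟨hzc, hz1, hzlt, hlen⟩ := z_ok
  rw [Nat.blt_eq] at hzlt
  have hrel : ∀ {k}, k < qCodes.length → RelL ((el (qCodes.getD k 0) : G315) : P315) (E (qCodes.getD k 0)) :=
    fun hk => el_rel (qCodes_valid hk)
  have hmem : ∀ {k}, (hk : k < qCodes.length) → el (qCodes.getD k 0) ∈ cloG qGens := fun {k} hk => by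
    rw [List.getD_eq_getElem _ _ hk]; exact ker_mem.q_mem_of_lt k hk
  set z : cloG qGens := ⟨_, hmem hzlt⟩ with hz
  have hzC : z ∈ Subgroup.center (cloG qGens) := by
    rw [Subgroup.mem_center_iff]
    rintro ⟨g, hg⟩
    obtain ⟨k, hk, rfl⟩ := hall g hg
    exact Subtype.ext (G_eq (RelL.appendG (hrel hzlt) (hrel hk)) (RelL.appendG (hrel hk) (hrel hzlt))
      (List.all_eq_true.1 hzc k (List.mem_range.2 (hlen ▸ hk)))).symm
  have hz1' : z ≠ 1 := fun h => by
    have := eqB_of_eq (hrel hzlt) RelL.nil (congrArg Subtype.val h : el (qCodes.getD zIdx 0) = (1 : G315))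
    exact Bool.false_ne_true (hz1.symm.trans this)
  have hX := fun a (ha : a < qCodes.length) => List.all_eq_true.1 qExtra_ok a (List.mem_range.2 (hlen ▸ ha))
  have hcen : ∀ c ∈ Subgroup.center (cloG qGens), c = 1 ∨ c = z := by
    rintro ⟨g, hg⟩ hcc
    obtain ⟨a, ha, rfl⟩ := hall g hg
    have h := hX a ha
    simp only [Bool.and_eq_true, Bool.or_eq_true] at h
    rcases h.1.1 with (h0 | h0) | h0
    · left
      obtain rfl := Nat.eq_of_beq_eq_true h0
      have h1 := q_ok
      simp only [sylOk, Bool.and_eq_true] at h1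
      exact Subtype.ext (G_eq (h := (1 : G315)) (hrel ha) RelL.nil h1.1.1.1.1.2)
    · right
      obtain rfl := Nat.eq_of_beq_eq_true h0
      rfl
    · exfalso
      obtain ⟨b, hb, hne⟩ := List.any_eq_true.1 h0
      have hb' : b < qCodes.length := hlen.symm ▸ List.mem_range.1 hb
      have := congrArg Subtype.val (Subgroup.mem_center_iff.1 hcc ⟨_, hmem hb'⟩)
      simp only [Subgroup.coe_mul] at this
      rw [eqB_of_eq (RelL.appendG (hrel ha) (hrel hb')) (RelL.appendG (hrel hb') (hrel ha)) this.symm] at hne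
      exact Bool.false_ne_true hne
  refine extraspecial_transfer e (by rw [hc, hlen]) ?_ ?_ ?_ ?_
  · rw [Nat.card_eq_two_iff' (1 : Subgroup.center (cloG qGens))]
    refine ⟨⟨z, hzC⟩, fun h => hz1' (congrArg Subtype.val h), fun c hc' => ?_⟩
    rcases hcen c c.2 with h | h
    · exact absurd (Subtype.ext h) hc'
    · exact Subtype.ext h
  · rintro ⟨g, hg⟩ ⟨g', hg'⟩
    obtain ⟨a, ha, rfl⟩ := hall g hg
    obtain ⟨b, hb, rfl⟩ := hall g' hg'
    have h := hX a ha
    simp only [Bool.and_eq_true, List.all_eq_true] at h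
    have h3 := h.2 b (List.mem_range.2 (hlen ▸ hb))
    rw [Bool.or_eq_true] at h3
    rcases h3 with h3 | h3
    · have := G_eq (RelL.appendG (hrel ha) (hrel hb)) (RelL.appendG (hrel hb) (hrel ha)) h3
      convert one_mem (Subgroup.center (cloG qGens)) using 1
      apply Subtype.ext
      simp only [Subgroup.coe_mul, Subgroup.coe_inv, Subgroup.coe_one]
      rw [this]; group
    · have := G_eq (RelL.appendG (hrel ha) (hrel hb))
        (RelL.appendG (hrel hzlt) (RelL.appendG (hrel hb) (hrel ha))) h3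
      convert hzC using 1
      apply Subtype.ext
      simp only [hz, Subgroup.coe_mul, Subgroup.coe_inv]
      rw [this]; group
  · rintro ⟨g, hg⟩
    obtain ⟨a, ha, rfl⟩ := hall g hg
    have h := hX a ha
    simp only [Bool.and_eq_true, Bool.or_eq_true] at h
    rcases h.1.2 with h3 | h3
    · convert one_mem (Subgroup.center (cloG qGens)) using 1
      exact Subtype.ext (G_eq (h := (1 : G315)) (RelL.appendG (hrel ha) (hrel ha)) RelL.nil h3)
    · convert hzC using 1
      exact Subtype.ext (G_eq (RelL.appendG (hrel ha) (hrel ha)) (hrel hzlt) h3)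
  · by_contra hna
    push Not at hna
    have htop : Subgroup.center (cloG qGens) = ⊤ := by
      rw [eq_top_iff]
      intro x _
      rw [Subgroup.mem_center_iff]
      exact fun y => hna y x
    have h32 : Nat.card (cloG qGens) ≤ 2 := by
      rw [← Nat.card_fin 2]
      classical
      refine Nat.card_le_card_of_injective (fun x => if x = 1 then (0 : Fin 2) else 1) fun x y hxy => ?_
      rcases hcen x (htop ▸ Subgroup.mem_top x) with rfl | rfl <;>
        rcases hcen y (htop ▸ Subgroup.mem_top y) with rfl | rfl <;> simp [hz1'] at hxy ⊢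
    omega

/-- Pulling back the kernel along an isomorphism. -/
noncomputable def kerComapEquiv {A : Type*} [Group A] (e : A ≃* stab0) :
    psi.ker.comap e.toMonoidHom ≃* psi.ker where
  toFun a := ⟨e a.1, a.2⟩
  invFun b := ⟨e.symm b.1, by
    show e (e.symm b.1) ∈ psi.ker
    rw [MulEquiv.apply_symm_apply]; exact b.2⟩
  left_inv a := Subtype.ext (e.symm_apply_apply a.1)
  right_inv b := Subtype.ext (e.apply_symm_apply b.1)
  map_mul' a b := Subtype.ext (map_mul e _ _)

theorem structure_of_stab0 {C : Type} [Group C] [Finite C] (e : C ≃* stab0) :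
    ∃ (Q : Subgroup C) (_ : Q.Normal),
      Nat.card Q = 32 ∧ Cfsg.IsExtraspecial 2 Q ∧ Nonempty (C ⧸ Q ≃* alternatingGroup (Fin 5)) := by
  let χ := psi.comp e.toMonoidHom
  have hker : χ.ker = psi.ker.comap e.toMonoidHom := by ext; rfl
  let eQ : χ.ker ≃* cloG qGens :=
    ((MulEquiv.subgroupCongr hker).trans (kerComapEquiv e)).trans kerEquiv
  refine ⟨χ.ker, inferInstance, ?_, q_extra eQ, ?_⟩
  · rw [Nat.card_congr eQ.toEquiv, (syl_spec q_ok).1, z_ok.2.2.2]
  · have hr : χ.range = alternatingGroup (Fin 5) := by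
      rw [← psi_range]
      ext σ
      constructor
      · rintro ⟨c, rfl⟩; exact ⟨e c, rfl⟩
      · rintro ⟨c, rfl⟩; exact ⟨e.symm c, by simp [χ]⟩
    exact ⟨(QuotientGroup.quotientKerEquivRange χ).trans (MulEquiv.subgroupCongr hr)⟩

theorem exists_centralizer_equiv (i : Fin 315) :
    Nonempty (Subgroup.centralizer ({reflP i} : Set G315) ≃* stab0) := by
  obtain ⟨g, hg, hgi⟩ := exists_conj_gen i
  rw [genGrp_eq] at hg
  set x : G315 := ⟨phi ⟨g, hg⟩, _, rfl⟩ with hx
  have hxi : x * reflP ⟨0, by omega⟩ * x⁻¹ = reflP i := by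
    rw [hx, conj_reflP, show phi ⟨g, hg⟩ ⟨0, by omega⟩ = i from lineMap_eq hgi]
  let e : Subgroup.centralizer ({reflP i} : Set G315) ≃* stab0 :=
    { toFun := fun c => ⟨x⁻¹ * c * x, by
        rw [stab0, Subgroup.mem_centralizer_singleton_iff]
        have := Subgroup.mem_centralizer_singleton_iff.1 c.2
        have h' : (c : G315) * (x * reflP ⟨0, by omega⟩ * x⁻¹) = x * reflP ⟨0, by omega⟩ * x⁻¹ * c := by
          rw [hxi]; exact this
        calc x⁻¹ * c * x * reflP ⟨0, by omega⟩ = x⁻¹ * ((c : G315) * (x * reflP ⟨0, by omega⟩ * x⁻¹)) * x := by group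
          _ = reflP ⟨0, by omega⟩ * (x⁻¹ * c * x) := by rw [h']; group⟩
      invFun := fun c => ⟨x * c * x⁻¹, by
        rw [Subgroup.mem_centralizer_singleton_iff, ← hxi]
        have : (c : G315) * reflP ⟨0, by omega⟩ = reflP ⟨0, by omega⟩ * (c : G315) :=
          Subgroup.mem_centralizer_singleton_iff.1 c.2
        calc x * c * x⁻¹ * (x * reflP ⟨0, by omega⟩ * x⁻¹) = x * ((c : G315) * reflP ⟨0, by omega⟩) * x⁻¹ := by group
          _ = x * reflP ⟨0, by omega⟩ * x⁻¹ * (x * c * x⁻¹) := by rw [this]; group⟩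
      left_inv := fun c => Subtype.ext (by simp [mul_assoc])
      right_inv := fun c => Subtype.ext (by simp [mul_assoc])
      map_mul' := fun a b => Subtype.ext (by simp [mul_assoc]) }
  exact ⟨e⟩

end CfsgLib.J2
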