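import Cfsg.Agent.J2.Spec

/-!
# Data and checks for the centraliser of a reflection
-/

set_option autoImplicit false
set_option maxRecDepth 100000

namespace CfsgLib.J2

def orthPts : List ℕ := [1, 2, 19, 26, 20, 25, 21, 24, 22, 23]

def qCodes : List ℕ := [0, 134217728, 35322079477760, 344134254592, 2560, 35322213695488, 344268472320, 134220288, 18014398643699712, 35391470043136, 35322079480320, 18049789845307392, 344134257152, 18014398509484544, 18014742777956864, 18014398509481984, 35391335825408, 35322213698048, 18049789979525120, 344268474880, 18014398643702272, 18014742643739136, 18049720723177472, 18014742777954304, 35391470045696, 18049720588962304, 18049789845309952, 18049720588959744, 18014742643736576, 35391335827968, 18049720723180032, 18049789979527680]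
def qGens : List ℕ := [134217728, 35322079477760, 344134254592, 2560]
def qPar : List ℕ := [0, 0, 1, 2, 3, 17, 18, 19, 33, 34, 35, 49, 51, 64, 66, 81, 82, 83, 97, 99, 112, 114, 129, 130, 147, 160, 162, 241, 242, 259, 272, 274]
def qMul : List ℕ := [1, 0, 5, 6, 13, 2, 3, 20, 15, 16, 25, 18, 21, 4, 19, 8, 9, 30, 11, 14, 7, 12, 27, 28, 31, 10, 29, 22, 23, 26, 17, 24, 2, 5, 8, 11, 10, 15, 18, 17, 22, 3, 20, 23, 26, 25, 24, 27, 6, 13, 28, 31, 30, 29, 0, 9, 12, 7, 14, 1, 16, 19, 4, 21, 3, 6, 9, 8, 14, 16, 15, 21, 23, 22, 26, 2, 4, 19, 20, 28, 27, 31, 5, 7, 12, 13, 11, 0, 10, 29, 30, 18, 1, 17, 24, 25, 4, 7, 10, 12, 0, 17, 19, 1, 20, 24, 2, 26, 3, 15, 23, 13, 29, 5, 31, 6, 8, 28, 30, 14, 9, 27, 11, 25, 21, 16, 22, 18]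
def zIdx : ℕ := 8

theorem q_ok : sylOk 2 qCodes qGens qPar qMul = true := by decide +kernel

/-- Block number of an orthogonal line. -/
def bix (x : ℕ) : ℕ := ((orthPts.findIdx fun a => Nat.beq a x) / 2) % 5

/-- First line of a block. -/
def bfst (i : ℕ) : ℕ := orthPts.getD (2 * i) 0

def isOrth (x : ℕ) : Bool := orthPts.any fun a => Nat.beq a x

def goodTab (ts : List ℕ) : Bool :=
  orthPts.all fun a => isOrth (apL ts a) && Nat.beq (bix (apL ts a)) (bix (apL ts (bfst (bix a))))

def actTriv (ts : List ℕ) : Bool :=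
  (List.range 5).all fun i => Nat.beq (bix (apL ts (bfst i))) i

theorem below_good : (topGens below).all (fun t => goodTab [t]) = true := by decide +kernel

theorem orth_ok : orthPts.all (fun a => Nat.blt a 315) = true ∧
    ((List.range 5).all fun i => isOrth (bfst i) && Nat.beq (bix (bfst i)) i) = true := by decide +kernel

theorem below_even : ∀ k < (topGens below).length, ∀ σ : Equiv.Perm (Fin 5),
    (∀ i : Fin 5, (σ i).val = bix (apL [(topGens below).getD k 0] (bfst i.val))) → Equiv.Perm.sign σ = 1 := by
  decide +kernel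

def kerOk : Bool :=
  (codesBelow below).all fun c =>
    !(actTriv (decodeTail below c)) ||
      qCodes.any fun d => eqB (decodeTail below c) (E d)

theorem ker_ok : kerOk = true := by decide +kernel

theorem q_fix : qCodes.all (fun d => Nat.beq (apL (E d) 0) 0 && actTriv (E d)) = true := by decide +kernel

def qExtraOk : Bool :=
  let q (k : ℕ) := E (qCodes.getD k 0)
  (List.range 32).all fun a =>
    (Nat.beq a 0 || Nat.beq a zIdx || (List.range 32).any fun b => !(eqB (q a ++ q b) (q b ++ q a))) &&
    (eqB (q a ++ q a) [] || eqB (q a ++ q a) (q zIdx)) &&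
    (List.range 32).all fun b => eqB (q a ++ q b) (q b ++ q a) || eqB (q a ++ q b) (q zIdx ++ (q b ++ q a))

theorem qExtra_ok : qExtraOk = true := by decide +kernel

theorem z_ok : ((List.range 32).all fun b => eqB (E (qCodes.getD zIdx 0) ++ E (qCodes.getD b 0))
    (E (qCodes.getD b 0) ++ E (qCodes.getD zIdx 0))) = true ∧ eqB (E (qCodes.getD zIdx 0)) [] = false ∧
    Nat.blt zIdx qCodes.length = true ∧ qCodes.length = 32 := by decide +kernel

theorem two_negated_ok : (List.range 315).all (fun j =>
    (evenQip (line 1) (line j) && evenQip (line 2) (line j)) && (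
      !(decide (reflQ (line j) (line 1) = ((line 1).1.neg, (line 1).2.1.neg, (line 1).2.2.neg))) ||
      !(decide (reflQ (line j) (line 2) = ((line 2).1.neg, (line 2).2.1.neg, (line 2).2.2.neg))))) = true := by
  decide +kernel

end CfsgLib.J2
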