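import Cfsg.Agent.J2.ChainData

/-!
# The stabiliser chain of `J₂` on the 315 lines
-/

set_option autoImplicit false
set_option maxRecDepth 100000
set_option Elab.async false

namespace CfsgLib.J2

abbrev P315 : Type := Equiv.Perm (Fin 315)

/-- Table application. -/
def ap (t i : ℕ) : ℕ := getP 9 t i

/-- Application of a product of tables. -/
def apL : List ℕ → ℕ → ℕ
  | [], i => i
  | t :: r, i => ap t (apL r i)

/-- The table describes the permutation. -/
def Rel (g : P315) (t : ℕ) : Prop := ∀ i : Fin 315, (g i).val = ap t i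

/-- The tables' product describes the permutation. -/
def RelL (g : P315) (ts : List ℕ) : Prop := ∀ i : Fin 315, (g i).val = apL ts i

theorem Rel.eq {g h : P315} {t : ℕ} (hg : Rel g t) (hh : Rel h t) : g = h :=
  Equiv.ext fun i => Fin.ext ((hg i).trans (hh i).symm)

theorem RelL.nil : RelL 1 [] := fun _ => rfl

theorem RelL.cons {g h : P315} {t : ℕ} {ts : List ℕ} (hg : Rel g t) (hh : RelL h ts) : RelL (g * h) (t :: ts) := by
  intro i
  rw [Equiv.Perm.mul_apply, hg, hh]
  rfl

theorem RelL.single {g : P315} {t : ℕ} (hg : Rel g t) : RelL g [t] := by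
  simpa using RelL.cons hg RelL.nil

/-- Equality of two products on the base. -/
def eqB (a b : List ℕ) : Bool := base.all fun x => Nat.beq (apL a x) (apL b x)

theorem eq_of_eqB {g h : P315} (hg : g ∈ G315) (hh : h ∈ G315) {a b : List ℕ} (ha : RelL g a) (hb : RelL h b)
    (h' : eqB a b = true) : g = h := by
  refine G315_ext hg hh fun x hx => Fin.ext ?_
  rw [ha, hb]
  exact Nat.eq_of_beq_eq_true (List.all_eq_true.1 h' x hx)

/-- One level of the chain. -/
structure Lev where
  pt : ℕ
  gens : List ℕ
  tabs : List ℕ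
  par : List ℕ
  cert : List (List ℕ)

/-- The group of a level. -/
def levGrp (gens : List ℕ) : Subgroup P315 := Subgroup.closure {g | ∃ t ∈ gens, Rel g t}

def topGens : List Lev → List ℕ
  | [] => []
  | L :: _ => L.gens

def decodeTail : List Lev → ℕ → List ℕ
  | [], _ => []
  | L :: r, c => L.tabs.getD (c % 512) 0 :: decodeTail r (c / 512)

def idTab (t : ℕ) : Bool := (List.range 315).all fun i => Nat.beq (ap t i) i

/-- Table `k + 1` is a generator times an earlier table. -/
def treeOk (L : Lev) : Bool :=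
  idTab (L.tabs.getD 0 0) && (List.range (L.tabs.length - 1)).all fun k =>
    let e := L.par.getD (k + 1) 0
    Nat.blt (e / 16) (k + 1) && Nat.blt (e % 16) L.gens.length && (List.range 315).all fun i =>
      Nat.beq (ap (L.tabs.getD (k + 1) 0) i) (ap (L.gens.getD (e % 16) 0) (ap (L.tabs.getD (e / 16) 0) i))

def distinctAt (b : ℕ) (l : List ℕ) : Bool :=
  (List.range l.length).all fun i => (List.range l.length).all fun j =>
    Nat.beq i j || !(Nat.beq (ap (l.getD i 0) b) (ap (l.getD j 0) b))

def closedOk (L : Lev) (r : List Lev) : Bool :=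
  (List.range L.gens.length).all fun s => (List.range L.tabs.length).all fun t =>
    let q := s * L.tabs.length + t
    let c := (L.cert.getD (q / 512) []).getD (q % 512) 0
    Nat.blt (c % 512) L.tabs.length &&
      eqB [L.gens.getD s 0, L.tabs.getD t 0] (decodeTail (L :: r) c) &&
      (decodeIdxOk r (c / 512))
where
  decodeIdxOk : List Lev → ℕ → Bool
    | [], _ => true
    | L :: r, c => Nat.blt (c % 512) L.tabs.length && decodeIdxOk r (c / 512)

def subGens (L : Lev) (r : List Lev) : Bool :=
  (topGens r).all fun t => L.gens.any fun s => Nat.beq s t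

def fixesOk (L : Lev) (r : List Lev) : Bool :=
  Nat.blt L.pt 315 && (topGens r).all fun t => Nat.beq (ap t L.pt) L.pt

/-- All tests on a chain. -/
def chainOk : List Lev → Bool
  | [] => true
  | L :: r => Nat.blt 0 L.tabs.length && treeOk L && distinctAt L.pt L.tabs && closedOk L r && subGens L r &&
      fixesOk L r && chainOk r

/-- Each generator table is a group element. -/
def GensIn (gens : List ℕ) : Prop := ∀ t ∈ gens, ∃ g ∈ G315, Rel g t

theorem levGrp_le {gens : List ℕ} (h : GensIn gens) : levGrp gens ≤ G315 :=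
  (Subgroup.closure_le _).2 fun g ⟨t, ht, hg⟩ => by
    obtain ⟨g', hg', hr⟩ := h t ht
    rw [hg.eq hr]; exact hg'

theorem levGrp_mono {L : Lev} {r : List Lev} (h : subGens L r = true) : levGrp (topGens r) ≤ levGrp L.gens :=
  (Subgroup.closure_le _).2 fun g ⟨t, ht, hg⟩ => by
    obtain ⟨s, hs, he⟩ := List.any_eq_true.1 (List.all_eq_true.1 h t ht)
    exact Subgroup.subset_closure ⟨s, hs, (Nat.eq_of_beq_eq_true he) ▸ hg⟩

theorem GensIn.sub {L : Lev} {r : List Lev} (h : GensIn L.gens) (hs : subGens L r = true) : GensIn (topGens r) := by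
  intro t ht
  obtain ⟨s, hs', he⟩ := List.any_eq_true.1 (List.all_eq_true.1 hs t ht)
  exact (Nat.eq_of_beq_eq_true he) ▸ h s hs'

theorem tree_mem {L : Lev} (h : GensIn L.gens) (hok : treeOk L = true) :
    ∀ k < L.tabs.length, ∃ g ∈ levGrp L.gens, Rel g (L.tabs.getD k 0) := by
  intro k
  induction k using Nat.strong_induction_on with
  | _ k ih =>
    intro hk
    simp only [treeOk, Bool.and_eq_true] at hok
    rcases Nat.eq_zero_or_pos k with rfl | hk0
    · exact ⟨1, one_mem _, fun i =>
        (Nat.eq_of_beq_eq_true (List.all_eq_true.1 hok.1 i.val (List.mem_range.2 i.2))).symm⟩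
    · have hh := List.all_eq_true.1 hok.2 (k - 1) (List.mem_range.2 (by omega))
      rw [show k - 1 + 1 = k by omega] at hh
      simp only [Bool.and_eq_true, Nat.blt_eq] at hh
      obtain ⟨g, hg, hgr⟩ := ih _ hh.1.1 (by omega)
      have hsm : L.gens.getD (L.par.getD k 0 % 16) 0 ∈ L.gens := by
        rw [List.getD_eq_getElem _ _ hh.1.2]; exact List.getElem_mem _
      obtain ⟨s, -, hsr⟩ := h _ hsm
      refine ⟨s * g, mul_mem (Subgroup.subset_closure ⟨_, hsm, hsr⟩) hg, fun i => ?_⟩
      rw [Equiv.Perm.mul_apply, hsr, hgr]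
      exact (Nat.eq_of_beq_eq_true (List.all_eq_true.1 hh.2 i.val (List.mem_range.2 i.2))).symm

/-- Products along the chain below a level. -/
theorem tail_mem : ∀ (r : List Lev), chainOk r = true → GensIn (topGens r) → ∀ c,
    closedOk.decodeIdxOk r c = true → ∃ g ∈ levGrp (topGens r), RelL g (decodeTail r c)
  | [], _, _, _, _ => ⟨1, one_mem _, RelL.nil⟩
  | L :: r, hok, hin, c, hc => by
    simp only [chainOk, Bool.and_eq_true] at hok
    simp only [closedOk.decodeIdxOk, Bool.and_eq_true, Nat.blt_eq] at hc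
    obtain ⟨g, hg, hgr⟩ := tree_mem (L := L) hin hok.1.1.1.1.1.2 _ hc.1
    obtain ⟨h, hh, hhr⟩ := tail_mem r hok.2 (hin.sub hok.1.1.2) _ hc.2
    exact ⟨g * h, mul_mem hg (levGrp_mono hok.1.1.2 hh), RelL.cons hgr hhr⟩

/-- Every element of a level is a transversal table times an element of the next level. -/
theorem level_decomp {L : Lev} {r : List Lev} (hok : chainOk (L :: r) = true) (hin : GensIn L.gens) :
    ∀ g ∈ levGrp L.gens, ∃ k < L.tabs.length, ∃ t, Rel t (L.tabs.getD k 0) ∧
      ∃ h ∈ levGrp (topGens r), g = t * h := by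
  simp only [chainOk, Bool.and_eq_true, Nat.blt_eq] at hok
  obtain ⟨⟨⟨⟨⟨⟨hpos, htree⟩, hdist⟩, hclosed⟩, hsub⟩, hfix⟩, hrest⟩ := hok
  have hstep : ∀ s ∈ {g | ∃ t ∈ L.gens, Rel g t}, ∀ g,
      (∃ k < L.tabs.length, ∃ t, Rel t (L.tabs.getD k 0) ∧ ∃ h ∈ levGrp (topGens r), g = t * h) →
      ∃ k < L.tabs.length, ∃ t, Rel t (L.tabs.getD k 0) ∧ ∃ h ∈ levGrp (topGens r), s * g = t * h := by
    rintro s ⟨ts, hts, hs⟩ g ⟨k, hk, t, ht, h, hh, rfl⟩
    obtain ⟨si, hsi, rfl⟩ := List.mem_iff_getElem.1 hts
    have hc := List.all_eq_true.1 (List.all_eq_true.1 hclosed si (List.mem_range.2 hsi)) k (List.mem_range.2 hk)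
    simp only [Bool.and_eq_true, Nat.blt_eq] at hc
    obtain ⟨⟨h1, h2⟩, h3⟩ := hc
    obtain ⟨t', ht', htr'⟩ := tree_mem hin htree _ h1
    obtain ⟨h', hh', hhr'⟩ := tail_mem r hrest (hin.sub hsub) _ h3
    refine ⟨_, h1, t', htr', h' * h, mul_mem hh' hh, ?_⟩
    have hle := levGrp_le hin
    obtain ⟨t₂, ht₂, htr₂⟩ := tree_mem hin htree k hk
    have e : s * t = t' * h' := by
      rw [List.getD_eq_getElem _ _ hsi] at h2
      refine eq_of_eqB (mul_mem (hle (Subgroup.subset_closure ⟨_, hts, hs⟩)) (hle (ht.eq htr₂ ▸ ht₂)))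
        (mul_mem (hle ht') (hle (levGrp_mono hsub hh'))) (RelL.cons hs (RelL.single ht)) ?_ h2
      exact RelL.cons htr' hhr'
    rw [← mul_assoc, e, mul_assoc]
  intro g hg
  induction hg using Subgroup.closure_induction_left with
  | one =>
    simp only [treeOk, Bool.and_eq_true] at htree
    exact ⟨0, hpos, 1, fun i => (Nat.eq_of_beq_eq_true
      (List.all_eq_true.1 htree.1 i.val (List.mem_range.2 i.2))).symm, 1, one_mem _, (one_mul _).symm⟩
  | mul_left s hs y _ ih => exact hstep s hs y ih
  | inv_mul_cancel s hs y _ ih =>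
    have hpow : ∀ n : ℕ, ∃ k < L.tabs.length, ∃ t, Rel t (L.tabs.getD k 0) ∧
        ∃ h ∈ levGrp (topGens r), s ^ n * y = t * h := by
      intro n
      induction n with
      | zero => simpa using ih
      | succ n ihn => rw [pow_succ', mul_assoc]; exact hstep s hs _ ihn
    have he : s⁻¹ = s ^ (orderOf s - 1) := by
      refine inv_eq_of_mul_eq_one_right ?_
      rw [← pow_succ', Nat.sub_add_cancel (orderOf_pos s), pow_orderOf_eq_one]
    rw [he]; exact hpow _

theorem fix_next {L : Lev} {r : List Lev} (hfix : fixesOk L r = true) {p : Fin 315} (hp : p.val = L.pt) :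
    ∀ h ∈ levGrp (topGens r), h p = p := by
  simp only [fixesOk, Bool.and_eq_true] at hfix
  intro h hh
  induction hh using Subgroup.closure_induction with
  | mem h hh =>
    obtain ⟨t, ht, hr⟩ := hh
    refine Fin.ext ?_
    rw [hr, hp]
    exact Nat.eq_of_beq_eq_true (List.all_eq_true.1 hfix.2 t ht)
  | one => rfl
  | mul a b _ _ ha hb => rw [Equiv.Perm.mul_apply, hb, ha]
  | inv a _ ha => nth_rewrite 1 [← ha]; rw [← Equiv.Perm.mul_apply, inv_mul_cancel, Equiv.Perm.one_apply]

theorem card_levGrp : ∀ (r : List Lev), chainOk r = true → GensIn (topGens r) →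
    Nat.card (levGrp (topGens r)) = (r.map fun L => L.tabs.length).prod
  | [], _, _ => by
    have : levGrp (topGens []) = ⊥ := by
      rw [levGrp, Subgroup.closure_eq_bot_iff]
      intro g hg
      obtain ⟨t, ht, -⟩ := hg
      exact absurd ht List.not_mem_nil
    rw [this, Subgroup.card_bot]; rfl
  | L :: r, hok, hin => by
    have hok' := hok
    simp only [chainOk, Bool.and_eq_true, Nat.blt_eq] at hok'
    obtain ⟨⟨⟨⟨⟨⟨hpos, htree⟩, hdist⟩, hclosed⟩, hsub⟩, hfix⟩, hrest⟩ := hok'
    have ih := card_levGrp r hrest (hin.sub hsub)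
    rw [List.map_cons, List.prod_cons, ← ih]
    have htab : ∀ k : Fin L.tabs.length, ∃ g, g ∈ levGrp L.gens ∧ Rel g (L.tabs.getD k 0) :=
      fun k => tree_mem hin htree k k.2
    choose T hT hTr using htab
    let f : Fin L.tabs.length × levGrp (topGens r) → levGrp L.gens :=
      fun x => ⟨T x.1 * x.2, mul_mem (hT _) (levGrp_mono hsub x.2.2)⟩
    have hf : Function.Bijective f := by
      constructor
      · rintro ⟨i, a, ha⟩ ⟨j, b, hb⟩ h
        have h' : T i * a = T j * b := congrArg Subtype.val h
        have hlt : L.pt < 315 := by simpa [fixesOk, Nat.blt_eq] using (Bool.and_eq_true _ _ ▸ hfix :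
          Nat.blt L.pt 315 = true ∧ _).1
        have e := DFunLike.congr_fun h' (⟨L.pt, hlt⟩ : Fin 315)
        rw [Equiv.Perm.mul_apply, Equiv.Perm.mul_apply, fix_next hfix rfl a ha, fix_next hfix rfl b hb] at e
        have e2 := congrArg Fin.val e
        rw [hTr, hTr] at e2
        have := List.all_eq_true.1 (List.all_eq_true.1 hdist i.val (List.mem_range.2 i.2)) j.val (List.mem_range.2 j.2)
        rw [Bool.or_eq_true] at this
        rcases this with h3 | h3
        · obtain rfl : i = j := Fin.ext (Nat.eq_of_beq_eq_true h3)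
          exact Prod.ext rfl (Subtype.ext (mul_left_cancel h'))
        · have e3 : ap (L.tabs.getD i.val 0) L.pt = ap (L.tabs.getD j.val 0) L.pt := e2
          rw [e3] at h3
          simp at h3
      · rintro ⟨g, hg⟩
        obtain ⟨k, hk, t, ht, h, hh, rfl⟩ := level_decomp hok hin g hg
        exact ⟨(⟨k, hk⟩, ⟨h, hh⟩), Subtype.ext (show T ⟨k, hk⟩ * h = t * h by rw [ht.eq (hTr ⟨k, hk⟩)])⟩
    rw [show topGens (L :: r) = L.gens from rfl, ← Nat.card_congr (Equiv.ofBijective f hf), Nat.card_prod, Nat.card_fin]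

def strongs (l : List ℕ) : List ℕ := l.map fun i => strongTab.getD i 0

/-- The chain. -/
def chain : List Lev :=
  [⟨0, genTab ++ strongTab, tabs0, par0, cert0⟩,
   ⟨1, strongs (strongSel.getD 0 []), tabs1, par1, cert1⟩,
   ⟨2, strongs (strongSel.getD 1 []), tabs2, par2, cert2⟩,
   ⟨10, strongs (strongSel.getD 2 []), tabs3, par3, cert3⟩,
   ⟨9, strongs (strongSel.getD 3 []), tabs4, par4, cert4⟩,
   ⟨8, strongs (strongSel.getD 4 []), tabs5, par5, cert5⟩,
   ⟨18, strongs (strongSel.getD 5 []), tabs6, par6, cert6⟩]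

/-- The top level. -/
def lev0 : Lev := ⟨0, genTab ++ strongTab, tabs0, par0, cert0⟩

/-- Position of a point in the top orbit; a certificate for the distinctness of the top tables. -/
def pos0 : ℕ := 0x3407e948728d8e233b2f014b12335d893a89461c4df42b080e0881a7c1a75303a470b97d8e571066a2bc0ae4533244cf736b81ce9615b8dd61e4209c0d3367cd86e142902417096f3d56a951a872024a9634dfe658d42190699b8bc90ba789ee4c5a8db4a729319be89d0a7944216ad974842c7197a30cf280fbf4ac184108a54f88f318630c93988b729869a8407990371f83c82b15babd96afd96518b3b4a70f361e026894009120e19a279549d8b97cbc708216081142a26d98864505e2a1008c1d765741ba9fc884cc44543e2c8ed1e3a50191d89a10ad0328d53c4d1c7d8f8a48ae59a806326f3e13c96d901ab888924c06d526e40cc24b23652d84a911b18cd06195bd025028017545220d1cc8287689c8cc6b2839950473a4e14b1d2e0399ae80e934183421368582e6aacd563277b6caa43184c980f014359167e4e0b582be521dc080f5080958153d25d9cf37b3e662b77736098c3580f638b2249fe4800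

/-- One generator's part of `closedOk`; checked separately to bound memory. -/
def closedBlk (L : Lev) (r : List Lev) (s : ℕ) : Bool :=
  (List.range L.tabs.length).all fun t =>
    let q := s * L.tabs.length + t
    let c := (L.cert.getD (q / 512) []).getD (q % 512) 0
    Nat.blt (c % 512) L.tabs.length &&
      eqB [L.gens.getD s 0, L.tabs.getD t 0] (decodeTail (L :: r) c) &&
      (closedOk.decodeIdxOk r (c / 512))

/-- A block of 45 steps of `treeOk`. -/
def treeBlk (L : Lev) (b : ℕ) : Bool :=
  (List.range 45).all fun j => Nat.ble (L.tabs.length - 1) (45 * b + j) ||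
    (let e := L.par.getD (45 * b + j + 1) 0
    Nat.blt (e / 16) (45 * b + j + 1) && Nat.blt (e % 16) L.gens.length && (List.range 315).all fun i =>
      Nat.beq (ap (L.tabs.getD (45 * b + j + 1) 0) i) (ap (L.gens.getD (e % 16) 0) (ap (L.tabs.getD (e / 16) 0) i)))

theorem closed0_0 : closedBlk lev0 chain.tail 0 = true := by decide +kernel
theorem closed0_1 : closedBlk lev0 chain.tail 1 = true := by decide +kernel
theorem closed0_2 : closedBlk lev0 chain.tail 2 = true := by decide +kernel
theorem closed0_3 : closedBlk lev0 chain.tail 3 = true := by decide +kernel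
theorem closed0_4 : closedBlk lev0 chain.tail 4 = true := by decide +kernel
theorem closed0_5 : closedBlk lev0 chain.tail 5 = true := by decide +kernel
theorem closed0_6 : closedBlk lev0 chain.tail 6 = true := by decide +kernel
theorem closed0_7 : closedBlk lev0 chain.tail 7 = true := by decide +kernel
theorem closed0_8 : closedBlk lev0 chain.tail 8 = true := by decide +kernel
theorem closed0_9 : closedBlk lev0 chain.tail 9 = true := by decide +kernel
theorem tree0_0 : treeBlk lev0 0 = true := by decide +kernel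
theorem tree0_1 : treeBlk lev0 1 = true := by decide +kernel
theorem tree0_2 : treeBlk lev0 2 = true := by decide +kernel
theorem tree0_3 : treeBlk lev0 3 = true := by decide +kernel
theorem tree0_4 : treeBlk lev0 4 = true := by decide +kernel
theorem tree0_5 : treeBlk lev0 5 = true := by decide +kernel
theorem tree0_6 : treeBlk lev0 6 = true := by decide +kernel
theorem lev0_lens : lev0.gens.length = 10 ∧ lev0.tabs.length = 315 ∧ idTab (lev0.tabs.getD 0 0) = true := by
  decide +kernel

theorem pos0_ok : (List.range 315).all (fun i => Nat.beq (getP 9 pos0 (ap (lev0.tabs.getD i 0) 0)) i) = true := by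
  decide +kernel

theorem rest_ok : (subGens lev0 chain.tail && fixesOk lev0 chain.tail && chainOk chain.tail) = true := by
  decide +kernel

theorem chain_ok : chainOk chain = true := by
  obtain ⟨hg, ht, hid⟩ := lev0_lens
  have htree : treeOk lev0 = true := by
    simp only [treeOk, Bool.and_eq_true]
    refine ⟨hid, List.all_eq_true.2 fun k hk => ?_⟩
    have hk' : k < 314 := by rw [ht] at hk; exact List.mem_range.1 hk
    have hb : ∀ b < 7, treeBlk lev0 b = true := by
      intro b hb
      interval_cases b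
      · exact tree0_0
      · exact tree0_1
      · exact tree0_2
      · exact tree0_3
      · exact tree0_4
      · exact tree0_5
      · exact tree0_6
    have h := List.all_eq_true.1 (hb (k / 45) (by omega)) (k % 45) (List.mem_range.2 (Nat.mod_lt _ (by omega)))
    rw [Bool.or_eq_true] at h
    rcases h with h | h
    · rw [ht, Nat.div_add_mod, Nat.ble_eq] at h; omega
    · rw [Nat.div_add_mod] at h; exact h
  have hclosed : closedOk lev0 chain.tail = true := by
    refine List.all_eq_true.2 fun k hk => ?_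
    have hk' := List.mem_range.1 hk
    rw [hg] at hk'
    show closedBlk lev0 chain.tail k = true
    interval_cases k
    · exact closed0_0
    · exact closed0_1
    · exact closed0_2
    · exact closed0_3
    · exact closed0_4
    · exact closed0_5
    · exact closed0_6
    · exact closed0_7
    · exact closed0_8
    · exact closed0_9
  have hdist : distinctAt lev0.pt lev0.tabs = true := by
    refine List.all_eq_true.2 fun i hi => List.all_eq_true.2 fun j hj => ?_
    rw [ht] at hi hj
    have h1 := Nat.eq_of_beq_eq_true (List.all_eq_true.1 pos0_ok i hi)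
    have h2 := Nat.eq_of_beq_eq_true (List.all_eq_true.1 pos0_ok j hj)
    rw [Bool.or_eq_true]
    by_cases hij : i = j
    · exact Or.inl (hij ▸ Nat.beq_refl i)
    · right
      rw [Bool.not_eq_true']
      by_contra hne
      rw [Bool.not_eq_false] at hne
      have e : ap (lev0.tabs.getD i 0) 0 = ap (lev0.tabs.getD j 0) 0 := Nat.eq_of_beq_eq_true hne
      exact hij (by rw [← h1, ← h2, e])
  have hrest := rest_ok
  simp only [Bool.and_eq_true] at hrest
  show chainOk (lev0 :: chain.tail) = true
  simp only [chainOk, Bool.and_eq_true, Nat.blt_eq]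
  exact ⟨⟨⟨⟨⟨⟨by omega, htree⟩, hdist⟩, hclosed⟩, hrest.1.1⟩, hrest.1.2⟩, hrest.2⟩

def wordOk : Bool :=
  (List.range strongTab.length).all fun s => (strongWord.getD s []).all (fun k => Nat.blt k 4) &&
    (List.range 315).all fun i =>
      Nat.beq (ap (strongTab.getD s 0) i) (apL ((strongWord.getD s []).map fun k => genTab.getD k 0) i)

theorem word_ok : wordOk = true := by decide +kernel

theorem genTab_rel (k : Fin 4) : Rel (phi (genJ k)) (genTab.getD k 0) := fun i => by
  rw [phi_genJ]; rfl

theorem word_rel : ∀ l : List ℕ, (∀ k ∈ l, k < 4) → ∃ g ∈ G315, RelL g (l.map fun k => genTab.getD k 0)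
  | [], _ => ⟨1, one_mem _, RelL.nil⟩
  | k :: l, h => by
    obtain ⟨g, hg, hr⟩ := word_rel l fun x hx => h x (List.mem_cons_of_mem _ hx)
    exact ⟨_, mul_mem ⟨genJ ⟨k, h k List.mem_cons_self⟩, rfl⟩ hg, RelL.cons (genTab_rel ⟨k, h k List.mem_cons_self⟩) hr⟩

theorem gensIn_top : GensIn (topGens chain) := by
  intro t ht
  rcases List.mem_append.1 ht with ht | ht
  · obtain ⟨k, hk, rfl⟩ := List.mem_iff_getElem.1 ht
    have hk4 : k < 4 := hk
    refine ⟨_, ⟨genJ ⟨k, hk4⟩, rfl⟩, ?_⟩
    have := genTab_rel ⟨k, hk4⟩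
    rwa [List.getD_eq_getElem _ _ hk] at this
  · obtain ⟨s, hs, rfl⟩ := List.mem_iff_getElem.1 ht
    have h := List.all_eq_true.1 word_ok s (List.mem_range.2 hs)
    simp only [Bool.and_eq_true] at h
    obtain ⟨g, hg, hr⟩ := word_rel (strongWord.getD s []) fun k hk => by
      simpa [Nat.blt_eq] using List.all_eq_true.1 h.1 k hk
    refine ⟨g, hg, fun i => ?_⟩
    rw [hr, ← Nat.eq_of_beq_eq_true (List.all_eq_true.1 h.2 i.val (List.mem_range.2 i.2)), List.getD_eq_getElem _ _ hs]

theorem levGrp_top : levGrp (topGens chain) = G315 := by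
  refine le_antisymm (levGrp_le gensIn_top) ?_
  rw [G315_eq, Subgroup.closure_le]
  rintro _ ⟨k, rfl⟩
  refine Subgroup.subset_closure ⟨genTab.getD k 0, List.mem_append.2 (Or.inl ?_), genTab_rel k⟩
  rw [List.getD_eq_getElem _ _ (show (k : ℕ) < genTab.length from k.2)]
  exact List.getElem_mem _

theorem card_G315 : Nat.card G315 = 604800 := by
  rw [← levGrp_top, card_levGrp chain chain_ok gensIn_top]
  decide +kernel

theorem card_J2 : Nat.card Cfsg.Spor.J2 = 604800 := (Nat.card_congr j2Equiv.toEquiv).trans card_G315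

end CfsgLib.J2
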