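/-
Certificate data for the multiplier of the Hall–Janko group.
-/
import Cfsg.Agent.SchurCert.Gen

set_option autoImplicit false
set_option maxRecDepth 100000

namespace CfsgLib.J2.Mult

open CfsgLib.M23Coh (Step)

def p2Gens : List (ℕ) :=
  [206963738112,
   18049652406354944,
   18014398509481984,
   344134254592,
   35322079477760,
   18049720588962304,
   18014398643699712,
   206292651008,
   35527969475072]

def p2Rels : List (List ℕ × List ℕ) :=
  [([0, 0], [5]),
   ([1, 0], [0, 1, 3, 4, 5, 6]),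
   ([1, 1], [3, 5]),
   ([2, 0], [0, 2, 3, 4, 5]),
   ([2, 1], [1, 2, 3, 5]),
   ([2, 2], []),
   ([3, 0], [0, 3, 5, 6]),
   ([3, 1], [1, 3, 6]),
   ([3, 2], [2, 3]),
   ([3, 3], [6]),
   ([4, 0], [0, 4, 5, 6]),
   ([4, 1], [1, 4, 5]),
   ([4, 2], [2, 4]),
   ([4, 3], [3, 4, 6]),
   ([4, 4], [6]),
   ([5, 0], [0, 5]),
   ([5, 1], [1, 5, 6]),
   ([5, 2], [2, 5, 6]),
   ([5, 3], [3, 5]),
   ([5, 4], [4, 5]),
   ([5, 5], []),
   ([6, 0], [0, 6]),
   ([6, 1], [1, 6]),
   ([6, 2], [2, 6]),
   ([6, 3], [3, 6]),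
   ([6, 4], [4, 6]),
   ([6, 5], [5, 6]),
   ([6, 6], []),
   ([7, 0], [1, 2, 4, 5, 6, 7]),
   ([7, 1], [0, 1, 4, 6, 7]),
   ([7, 2], [2, 3, 4, 5, 7]),
   ([7, 3], [4, 5, 6, 7]),
   ([7, 4], [3, 4, 7]),
   ([7, 5], [5, 7]),
   ([7, 6], [6, 7]),
   ([8, 2, 3, 5], [5, 8]),
   ([8, 3], [3, 6, 8]),
   ([8, 2, 4], [4, 6, 8]),
   ([8, 2], [2, 6, 8]),
   ([8, 6], [6, 8])]

def p2Eqs_0 : List (List ℕ × List Step × List Step) :=
  [([0, 0, 0], [(0, false, 0), (15, false, 0)], [(0, false, 1)]),
   ([1, 1, 0], [(2, false, 0), (15, false, 1), (6, false, 0), (26, false, 3), (20, false, 2)], [(1, false, 1), (1, false, 0), (22, false, 5), (16, false, 4), (11, false, 3), (7, false, 2), (2, false, 1), (18, false, 2), (9, false, 1), (26, false, 1), (27, false, 2), (19, false, 1), (20, false, 2), (27, false, 3), (18, false, 2), (13, false, 1), (26, false, 3), (25, false, 4), (19, false, 3), (14, false, 2), (26, false, 2), (27, false, 3), (20, false, 2)]),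
   ([1, 0, 0], [(1, false, 0), (21, false, 5), (15, false, 4), (10, false, 3), (6, false, 2), (1, false, 1), (0, false, 0), (16, false, 0), (24, false, 2), (18, false, 1), (25, false, 3), (19, false, 2), (26, false, 4), (20, false, 3), (27, false, 3), (13, false, 2), (9, false, 1), (25, false, 1), (27, false, 2), (25, false, 3), (19, false, 2), (14, false, 1), (26, false, 1), (27, false, 2), (20, false, 1), (26, false, 1), (27, false, 2)], [(0, false, 1)]),
   ([1, 1, 1], [(2, false, 0), (16, false, 1), (7, false, 0), (26, false, 2), (27, false, 3)], [(2, false, 1)]),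
   ([2, 2, 0], [(5, false, 0)], [(3, false, 1), (3, false, 0), (17, false, 4), (12, false, 3), (8, false, 2), (5, false, 1), (24, false, 4), (18, false, 3), (13, false, 2), (9, false, 1), (25, false, 1), (27, false, 2), (25, false, 3), (19, false, 2), (14, false, 1), (26, false, 1), (27, false, 2), (20, false, 1)]),
   ([2, 0, 0], [(3, false, 0), (15, false, 4), (10, false, 3), (6, false, 2), (3, false, 1), (0, false, 0), (17, false, 0), (24, false, 2), (18, false, 1), (25, false, 3), (19, false, 2), (26, false, 4), (20, false, 3), (24, false, 3), (13, false, 2), (9, false, 1), (25, false, 1), (27, false, 2), (26, false, 2), (27, false, 3), (19, false, 2), (14, false, 1), (26, false, 1), (26, false, 2), (20, false, 1), (27, false, 1)], [(0, false, 1)]),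
   ([2, 1, 0], [(4, false, 0), (15, false, 3), (6, false, 2), (3, false, 1), (1, false, 0), (23, false, 5), (17, false, 4), (12, false, 3), (8, false, 2), (27, false, 6), (18, false, 5), (13, false, 4), (9, false, 3), (25, false, 3), (27, false, 4), (19, false, 4), (14, false, 3), (26, false, 3), (26, false, 4), (20, false, 3), (24, false, 3), (26, false, 4), (27, false, 5), (20, false, 4)], [(1, false, 1), (3, false, 0), (16, false, 4), (11, false, 3), (7, false, 2), (4, false, 1), (18, false, 4), (9, false, 3), (26, false, 3), (27, false, 4), (19, false, 3), (20, false, 4), (24, false, 5), (18, false, 4), (13, false, 3), (26, false, 5), (27, false, 6), (19, false, 5), (14, false, 4), (26, false, 4), (26, false, 5), (20, false, 4), (27, false, 4)]),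
   ([2, 2, 1], [(5, false, 0)], [(4, false, 1), (4, false, 0), (17, false, 3), (8, false, 2), (5, false, 1), (24, false, 3), (18, false, 2), (9, false, 1), (26, false, 1), (27, false, 2), (20, false, 1)]),
   ([2, 1, 1], [(4, false, 0), (16, false, 3), (7, false, 2), (4, false, 1), (2, false, 0), (17, false, 1), (8, false, 0), (24, false, 3), (18, false, 2), (9, false, 1), (26, false, 1), (27, false, 2), (20, false, 1), (26, false, 2), (27, false, 3)], [(2, false, 1)]),
   ([2, 2, 2], [(5, false, 0)], [(5, false, 1)]),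
   ([3, 3, 0], [(9, false, 0), (21, false, 0)], [(6, false, 1), (6, false, 0), (24, false, 3), (18, false, 2), (9, false, 1), (26, false, 1), (27, false, 2), (20, false, 1)]),
   ([3, 0, 0], [(6, false, 0), (21, false, 3), (15, false, 2), (6, false, 1), (0, false, 0), (18, false, 0), (20, false, 1), (26, false, 1), (27, false, 2)], [(0, false, 1)]),
   ([3, 1, 0], [(7, false, 0), (21, false, 2), (6, false, 1), (1, false, 0), (24, false, 5), (18, false, 4), (13, false, 3), (9, false, 2), (25, false, 2), (27, false, 3), (26, false, 4), (20, false, 3), (27, false, 3)], [(1, false, 1), (6, false, 0), (22, false, 3), (16, false, 2), (7, false, 1), (26, false, 3), (27, false, 4), (24, false, 4), (18, false, 3), (9, false, 2), (26, false, 2), (27, false, 3), (19, false, 2), (20, false, 3)]),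
   ([3, 3, 1], [(9, false, 0), (22, false, 0)], [(7, false, 1), (7, false, 0), (24, false, 2), (9, false, 1), (27, false, 1)]),
   ([3, 1, 1], [(7, false, 0), (22, false, 2), (7, false, 1), (2, false, 0), (18, false, 1), (9, false, 0), (26, false, 0), (27, false, 1)], [(2, false, 1), (9, false, 0), (26, false, 0)]),
   ([3, 2, 0], [(8, false, 0), (6, false, 1), (3, false, 0), (18, false, 4), (13, false, 3), (9, false, 2), (25, false, 2), (27, false, 3), (20, false, 3)], [(3, false, 1), (6, false, 0), (23, false, 3), (17, false, 2), (8, false, 1), (27, false, 4), (18, false, 3), (9, false, 2), (26, false, 2), (25, false, 3), (19, false, 2), (26, false, 4), (20, false, 3)]),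
   ([3, 2, 1], [(8, false, 0), (7, false, 1), (4, false, 0), (18, false, 3), (9, false, 2), (26, false, 2), (27, false, 3)], [(4, false, 1), (7, false, 0), (23, false, 2), (8, false, 1), (24, false, 3), (9, false, 2), (27, false, 2)]),
   ([3, 3, 2], [(9, false, 0), (23, false, 0)], [(8, false, 1), (8, false, 0), (9, false, 1)]),
   ([3, 2, 2], [(8, false, 0), (8, false, 1), (5, false, 0)], [(5, false, 1)]),
   ([3, 3, 3], [(9, false, 0), (24, false, 0)], [(9, false, 1)])]

def p2Eqs_1 : List (List ℕ × List Step × List Step) :=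
  [([4, 4, 0], [(14, false, 0), (21, false, 0)], [(10, false, 1), (10, false, 0), (25, false, 3), (19, false, 2), (14, false, 1), (26, false, 1), (27, false, 2), (20, false, 1)]),
   ([4, 0, 0], [(10, false, 0), (21, false, 3), (15, false, 2), (10, false, 1), (0, false, 0), (19, false, 0), (20, false, 1), (26, false, 1), (27, false, 2)], [(0, false, 1)]),
   ([4, 1, 0], [(11, false, 0), (15, false, 2), (10, false, 1), (1, false, 0), (25, false, 5), (19, false, 4), (14, false, 3), (26, false, 3), (27, false, 4), (20, false, 3), (26, false, 3)], [(1, false, 1), (10, false, 0), (22, false, 3), (16, false, 2), (11, false, 1), (20, false, 3), (27, false, 3), (13, false, 2), (25, false, 4), (14, false, 3), (27, false, 3)]),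
   ([4, 4, 1], [(14, false, 0), (22, false, 0)], [(11, false, 1), (11, false, 0), (19, false, 2), (14, false, 1), (26, false, 1), (26, false, 2), (20, false, 1)]),
   ([4, 1, 1], [(11, false, 0), (16, false, 2), (11, false, 1), (2, false, 0), (19, false, 1), (20, false, 2)], [(2, false, 1), (13, false, 0), (26, false, 2)]),
   ([4, 2, 0], [(12, false, 0), (10, false, 1), (3, false, 0), (19, false, 4), (14, false, 3), (26, false, 3), (26, false, 4), (20, false, 3), (27, false, 3)], [(3, false, 1), (10, false, 0), (23, false, 3), (17, false, 2), (12, false, 1), (27, false, 4), (18, false, 3), (13, false, 2), (26, false, 4), (25, false, 5), (19, false, 4), (14, false, 3), (26, false, 3), (27, false, 4), (20, false, 3)]),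
   ([4, 2, 1], [(12, false, 0), (11, false, 1), (4, false, 0), (19, false, 3), (20, false, 4)], [(4, false, 1), (11, false, 0), (17, false, 2), (12, false, 1), (24, false, 4), (18, false, 3), (13, false, 2), (26, false, 4), (27, false, 5), (20, false, 4)]),
   ([4, 4, 2], [(14, false, 0), (23, false, 0)], [(12, false, 1), (12, false, 0), (14, false, 1)]),
   ([4, 2, 2], [(12, false, 0), (12, false, 1), (5, false, 0)], [(5, false, 1)]),
   ([4, 3, 0], [(13, false, 0), (21, false, 2), (10, false, 1), (6, false, 0), (25, false, 3), (19, false, 2), (26, false, 4), (20, false, 3), (27, false, 3)], [(6, false, 1), (10, false, 0), (24, false, 3), (18, false, 2), (13, false, 1), (26, false, 3), (27, false, 4), (20, false, 3)]),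
   ([4, 3, 1], [(13, false, 0), (22, false, 2), (11, false, 1), (7, false, 0), (25, false, 2), (26, false, 3), (27, false, 4)], [(7, false, 1), (11, false, 0), (18, false, 2), (13, false, 1), (26, false, 3), (27, false, 4)]),
   ([4, 3, 2], [(13, false, 0), (23, false, 2), (12, false, 1), (8, false, 0)], [(8, false, 1), (12, false, 0), (13, false, 1)]),
   ([4, 4, 3], [(14, false, 0), (24, false, 0)], [(13, false, 1), (13, false, 0), (25, false, 2), (14, false, 1), (27, false, 1)]),
   ([4, 3, 3], [(13, false, 0), (24, false, 2), (13, false, 1), (9, false, 0), (25, false, 0), (27, false, 1)], [(9, false, 1)]),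
   ([4, 4, 4], [(14, false, 0), (25, false, 0)], [(14, false, 1)]),
   ([5, 5, 0], [(20, false, 0)], [(15, false, 1), (15, false, 0), (20, false, 1)]),
   ([5, 0, 0], [(15, false, 0), (15, false, 1), (0, false, 0), (20, false, 0)], [(0, false, 1), (20, false, 0)]),
   ([5, 1, 0], [(16, false, 0), (21, false, 2), (15, false, 1), (1, false, 0), (26, false, 5), (20, false, 4), (27, false, 4)], [(1, false, 1), (15, false, 0), (16, false, 1), (24, false, 3), (18, false, 2), (25, false, 4), (19, false, 3), (26, false, 5), (20, false, 4), (27, false, 4)]),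
   ([5, 5, 1], [(20, false, 0)], [(16, false, 1), (16, false, 0), (26, false, 2), (20, false, 1), (27, false, 1)]),
   ([5, 1, 1], [(16, false, 0), (22, false, 2), (16, false, 1), (2, false, 0), (20, false, 1), (27, false, 1)], [(2, false, 1), (18, false, 0), (20, false, 1)])]

def p2Eqs_2 : List (List ℕ × List Step × List Step) :=
  [([5, 2, 0], [(17, false, 0), (21, false, 2), (15, false, 1), (3, false, 0), (20, false, 4)], [(3, false, 1), (15, false, 0), (17, false, 1), (24, false, 3), (18, false, 2), (25, false, 4), (19, false, 3), (26, false, 5), (20, false, 4)]),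
   ([5, 2, 1], [(17, false, 0), (22, false, 2), (16, false, 1), (4, false, 0), (20, false, 3), (27, false, 3)], [(4, false, 1), (16, false, 0), (23, false, 2), (17, false, 1), (27, false, 3), (18, false, 2), (20, false, 3)]),
   ([5, 5, 2], [(20, false, 0)], [(17, false, 1), (17, false, 0), (26, false, 2), (20, false, 1), (27, false, 1)]),
   ([5, 2, 2], [(17, false, 0), (23, false, 2), (17, false, 1), (5, false, 0), (27, false, 1)], [(5, false, 1)]),
   ([5, 3, 0], [(18, false, 0), (15, false, 1), (6, false, 0), (26, false, 3), (20, false, 2)], [(6, false, 1), (15, false, 0), (18, false, 1), (20, false, 2)]),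
   ([5, 3, 1], [(18, false, 0), (16, false, 1), (7, false, 0), (26, false, 2), (27, false, 3)], [(7, false, 1), (16, false, 0), (24, false, 2), (18, false, 1), (27, false, 3)]),
   ([5, 3, 2], [(18, false, 0), (17, false, 1), (8, false, 0)], [(8, false, 1), (17, false, 0), (24, false, 2), (18, false, 1)]),
   ([5, 5, 3], [(20, false, 0)], [(18, false, 1), (18, false, 0), (20, false, 1)]),
   ([5, 3, 3], [(18, false, 0), (18, false, 1), (9, false, 0), (26, false, 0)], [(9, false, 1)]),
   ([5, 4, 0], [(19, false, 0), (15, false, 1), (10, false, 0), (26, false, 3), (20, false, 2)], [(10, false, 1), (15, false, 0), (19, false, 1), (20, false, 2)]),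
   ([5, 4, 1], [(19, false, 0), (16, false, 1), (11, false, 0), (20, false, 2)], [(11, false, 1), (16, false, 0), (25, false, 2), (19, false, 1), (26, false, 3), (20, false, 2)]),
   ([5, 4, 2], [(19, false, 0), (17, false, 1), (12, false, 0)], [(12, false, 1), (17, false, 0), (25, false, 2), (19, false, 1)]),
   ([5, 4, 3], [(19, false, 0), (18, false, 1), (13, false, 0), (26, false, 2)], [(13, false, 1), (18, false, 0), (19, false, 1)]),
   ([5, 5, 4], [(20, false, 0)], [(19, false, 1), (19, false, 0), (20, false, 1)]),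
   ([5, 4, 4], [(19, false, 0), (19, false, 1), (14, false, 0), (26, false, 0)], [(14, false, 1)]),
   ([5, 5, 5], [(20, false, 0)], [(20, false, 1)]),
   ([6, 6, 0], [(27, false, 0)], [(21, false, 1), (21, false, 0), (27, false, 1)]),
   ([6, 0, 0], [(21, false, 0), (21, false, 1), (0, false, 0)], [(0, false, 1), (26, false, 0)]),
   ([6, 1, 0], [(22, false, 0), (21, false, 1), (1, false, 0), (27, false, 5)], [(1, false, 1), (21, false, 0), (22, false, 1), (24, false, 2), (25, false, 3), (26, false, 4), (27, false, 5)]),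
   ([6, 6, 1], [(27, false, 0)], [(22, false, 1), (22, false, 0), (27, false, 1)])]

def p2Eqs_3 : List (List ℕ × List Step × List Step) :=
  [([6, 1, 1], [(22, false, 0), (22, false, 1), (2, false, 0)], [(2, false, 1), (24, false, 0), (26, false, 1)]),
   ([6, 2, 0], [(23, false, 0), (21, false, 1), (3, false, 0)], [(3, false, 1), (21, false, 0), (23, false, 1), (24, false, 2), (25, false, 3), (26, false, 4)]),
   ([6, 2, 1], [(23, false, 0), (22, false, 1), (4, false, 0)], [(4, false, 1), (22, false, 0), (23, false, 1), (24, false, 2), (26, false, 3)]),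
   ([6, 6, 2], [(27, false, 0)], [(23, false, 1), (23, false, 0), (27, false, 1)]),
   ([6, 2, 2], [(23, false, 0), (23, false, 1), (5, false, 0)], [(5, false, 1)]),
   ([6, 3, 0], [(24, false, 0), (21, false, 1), (6, false, 0), (27, false, 3)], [(6, false, 1), (21, false, 0), (24, false, 1), (26, false, 2), (27, false, 3)]),
   ([6, 3, 1], [(24, false, 0), (22, false, 1), (7, false, 0), (27, false, 2)], [(7, false, 1), (22, false, 0), (24, false, 1), (27, false, 2)]),
   ([6, 3, 2], [(24, false, 0), (23, false, 1), (8, false, 0)], [(8, false, 1), (23, false, 0), (24, false, 1)]),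
   ([6, 6, 3], [(27, false, 0)], [(24, false, 1), (24, false, 0), (27, false, 1)]),
   ([6, 3, 3], [(24, false, 0), (24, false, 1), (9, false, 0), (27, false, 0)], [(9, false, 1), (27, false, 0)]),
   ([6, 4, 0], [(25, false, 0), (21, false, 1), (10, false, 0), (27, false, 3)], [(10, false, 1), (21, false, 0), (25, false, 1), (26, false, 2), (27, false, 3)]),
   ([6, 4, 1], [(25, false, 0), (22, false, 1), (11, false, 0)], [(11, false, 1), (22, false, 0), (25, false, 1), (26, false, 2)]),
   ([6, 4, 2], [(25, false, 0), (23, false, 1), (12, false, 0)], [(12, false, 1), (23, false, 0), (25, false, 1)]),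
   ([6, 4, 3], [(25, false, 0), (24, false, 1), (13, false, 0), (27, false, 2)], [(13, false, 1), (24, false, 0), (25, false, 1), (27, false, 2)]),
   ([6, 6, 4], [(27, false, 0)], [(25, false, 1), (25, false, 0), (27, false, 1)]),
   ([6, 4, 4], [(25, false, 0), (25, false, 1), (14, false, 0), (27, false, 0)], [(14, false, 1), (27, false, 0)]),
   ([6, 5, 0], [(26, false, 0), (21, false, 1), (15, false, 0)], [(15, false, 1), (21, false, 0), (26, false, 1)]),
   ([6, 5, 1], [(26, false, 0), (22, false, 1), (16, false, 0), (27, false, 2)], [(16, false, 1), (22, false, 0), (26, false, 1), (27, false, 2)]),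
   ([6, 5, 2], [(26, false, 0), (23, false, 1), (17, false, 0), (27, false, 2)], [(17, false, 1), (23, false, 0), (26, false, 1), (27, false, 2)]),
   ([6, 5, 3], [(26, false, 0), (24, false, 1), (18, false, 0)], [(18, false, 1), (24, false, 0), (26, false, 1)])]

def p2Eqs_4 : List (List ℕ × List Step × List Step) :=
  [([6, 5, 4], [(26, false, 0), (25, false, 1), (19, false, 0)], [(19, false, 1), (25, false, 0), (26, false, 1)]),
   ([6, 6, 5], [(27, false, 0)], [(26, false, 1), (26, false, 0), (27, false, 1)]),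
   ([6, 5, 5], [(26, false, 0), (26, false, 1), (20, false, 0)], [(20, false, 1)]),
   ([6, 6, 6], [(27, false, 0)], [(27, false, 1)]),
   ([7, 0, 0], [(28, false, 0), (28, false, 5), (22, false, 4), (16, false, 3), (11, false, 2), (4, false, 1), (2, false, 0), (17, false, 1), (8, false, 0), (24, false, 3), (18, false, 2), (9, false, 1), (26, false, 1), (27, false, 2), (20, false, 1), (20, false, 2), (27, false, 2), (12, false, 1), (5, false, 0), (14, false, 0), (26, false, 0), (27, false, 1)], [(0, false, 1), (33, false, 0)]),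
   ([7, 1, 1], [(29, false, 0), (29, false, 4), (21, false, 3), (10, false, 2), (1, false, 1), (0, false, 0), (16, false, 0), (24, false, 2), (18, false, 1), (25, false, 3), (19, false, 2), (26, false, 4), (20, false, 3), (27, false, 3), (14, false, 2), (26, false, 2), (27, false, 3), (22, false, 3), (16, false, 2), (7, false, 1), (2, false, 0), (18, false, 1), (9, false, 0), (26, false, 0), (27, false, 1), (20, false, 0), (27, false, 0)], [(2, false, 1), (31, false, 0), (33, false, 3), (26, false, 2), (20, false, 1)]),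
   ([7, 1, 0], [(29, false, 0), (28, false, 4), (22, false, 3), (11, false, 2), (2, false, 1), (19, false, 2), (20, false, 3), (23, false, 3), (12, false, 2), (8, false, 1), (25, false, 4), (14, false, 3), (27, false, 3)], [(1, false, 1), (28, false, 0), (29, false, 5), (31, false, 9), (32, false, 12), (33, false, 14), (34, false, 15), (21, false, 4), (15, false, 3), (10, false, 2), (3, false, 1), (1, false, 0), (23, false, 5), (17, false, 4), (12, false, 3), (8, false, 2), (27, false, 6), (18, false, 5), (13, false, 4), (9, false, 3), (25, false, 3), (27, false, 4), (19, false, 4), (14, false, 3), (26, false, 3), (26, false, 4), (20, false, 3), (25, false, 3), (26, false, 4), (27, false, 5), (20, false, 4), (22, false, 4), (11, false, 3), (4, false, 2), (2, false, 1), (17, false, 2), (8, false, 1), (24, false, 4), (18, false, 3), (9, false, 2), (26, false, 2), (27, false, 3), (20, false, 2), (25, false, 4), (19, false, 3), (14, false, 2), (26, false, 2), (27, false, 3), (25, false, 3),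 (19, false, 2), (26, false, 4), (20, false, 3), (27, false, 3), (13, false, 2), (25, false, 4), (14, false, 3), (27, false, 3)]),
   ([7, 2, 2], [(30, false, 0), (30, false, 4), (17, false, 3), (12, false, 2), (8, false, 1), (5, false, 0), (24, false, 3), (18, false, 2), (13, false, 1), (9, false, 0), (25, false, 0), (27, false, 1), (25, false, 2), (19, false, 1), (14, false, 0), (26, false, 0), (27, false, 1), (20, false, 0)], [(5, false, 1)]),
   ([7, 2, 0], [(30, false, 0), (28, false, 4), (16, false, 3), (11, false, 2), (7, false, 1), (4, false, 0), (18, false, 3), (9, false, 2), (26, false, 2), (27, false, 3), (19, false, 2), (20, false, 3), (23, false, 4), (17, false, 3), (12, false, 2), (5, false, 1), (27, false, 3), (19, false, 2), (14, false, 1), (26, false, 1), (26, false, 2), (20, false, 1), (27, false, 1)], [(3, false, 1), (28, false, 0), (30, false, 5), (31, false, 9), (32, false, 12), (33, false, 14), (23, false, 4), (17, false, 3), (12, false, 2), (5, false, 1), (27, false,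 3), (18, false, 2), (13, false, 1), (26, false, 3), (25, false, 4), (19, false, 3), (14, false, 2), (26, false, 2), (27, false, 3), (20, false, 2), (24, false, 4), (18, false, 3), (13, false, 2), (9, false, 1), (25, false, 1), (27, false, 2), (25, false, 3), (19, false, 2), (14, false, 1), (26, false, 1), (27, false, 2), (20, false, 1)]),
   ([7, 2, 1], [(30, false, 0), (29, false, 4), (15, false, 3), (10, false, 2), (6, false, 1), (3, false, 0), (18, false, 4), (13, false, 3), (9, false, 2), (25, false, 2), (27, false, 3), (20, false, 3), (25, false, 3), (14, false, 2), (27, false, 2), (26, false, 3), (20, false, 2), (22, false, 2), (4, false, 1), (25, false, 5), (19, false, 4), (27, false, 6)], [(4, false, 1), (29, false, 0), (30, false, 4), (31, false, 8), (33, false, 11), (23, false, 3), (12, false, 2), (24, false, 4), (13, false, 3), (27, false, 5), (14, false, 4), (26, false, 4), (25, false, 5), (19, false, 4), (26, false, 6), (20, false, 5), (27, false, 5)]),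
   ([7, 3, 3], [(31, false, 0), (31, false, 3), (25, false, 2), (19, false, 1), (14, false, 0), (26, false, 0), (27, false, 1), (20, false, 0)], [(9, false, 1), (34, false, 0)]),
   ([7, 3, 0], [(31, false, 0), (28, false, 3), (22, false, 2), (16, false, 1), (11, false, 0), (20, false, 2), (27, false, 2), (12, false, 1), (14, false, 2), (26, false, 2), (27, false, 3)], [(6, false, 1), (28, false, 0), (31, false, 5), (33, false, 8), (34, false, 9), (25, false, 4), (19, false, 3), (14, false, 2), (26, false, 2), (27, false, 3), (20, false, 2), (26, false, 2), (27, false, 3)]),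
   ([7, 3, 1], [(31, false, 0), (29, false, 3), (21, false, 2), (15, false, 1), (10, false, 0), (26, false, 3), (20, false, 2), (27, false, 2), (11, false, 1), (19, false, 3), (14, false, 2), (26, false, 2), (27, false, 3)], [(7, false, 1), (29, false, 0), (31, false, 4), (34, false, 7), (25, false, 3), (14, false, 2), (27, false, 2), (27, false, 3)]),
   ([7, 3, 2], [(31, false, 0), (30, false, 3), (23, false, 2), (17, false, 1), (12, false, 0), (27, false, 3), (18, false, 2), (13, false, 1), (26, false, 3), (25, false, 4), (19, false, 3), (14, false, 2), (26, false, 2), (27, false, 3), (20, false, 2)], [(8, false, 1), (30, false, 0), (31, false, 4), (19, false, 3), (14, false, 2), (26, false, 2), (26, false, 3), (20, false, 2), (27, false, 2)]),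
   ([7, 4, 4], [(32, false, 0), (32, false, 2), (13, false, 1), (9, false, 0), (25, false, 0), (27, false, 1), (14, false, 0)], [(14, false, 1), (34, false, 0)]),
   ([7, 4, 0], [(32, false, 0), (28, false, 2), (11, false, 1), (7, false, 0), (25, false, 2), (26, false, 3), (23, false, 4), (17, false, 3), (12, false, 2), (8, false, 1), (27, false, 5), (19, false, 4), (14, false, 3), (26, false, 3), (26, false, 4), (20, false, 3), (27, false, 3)], [(10, false, 1), (28, false, 0), (32, false, 5), (33, false, 7), (34, false, 8), (24, false, 4), (18, false, 3), (13, false, 2), (26, false, 4), (27, false, 5), (19, false, 4), (14, false, 3), (26, false, 3), (26, false, 4), (20, false, 3), (27, false, 3)]),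
   ([7, 4, 1], [(32, false, 0), (29, false, 2), (10, false, 1), (6, false, 0), (25, false, 3), (19, false, 2), (26, false, 4), (20, false, 3), (27, false, 3), (11, false, 2), (7, false, 1), (25, false, 3), (26, false, 4), (25, false, 5), (19, false, 4), (14, false, 3), (26, false, 3), (27, false, 4)], [(11, false, 1), (29, false, 0), (32, false, 4), (33, false, 6), (24, false, 3), (13, false, 2), (27, false, 4), (14, false, 3), (26, false, 3)]),
   ([7, 4, 2], [(32, false, 0), (30, false, 2), (12, false, 1), (8, false, 0), (13, false, 2), (9, false, 1), (25, false, 1), (27, false, 2), (14, false, 1), (26, false, 1)], [(12, false, 1), (30, false, 0), (32, false, 4), (18, false, 3), (13, false, 2), (9, false, 1), (25, false, 1), (27, false, 2), (19, false, 2), (14, false, 1), (26, false, 1)]),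
   ([7, 4, 3], [(32, false, 0), (31, false, 2), (14, false, 1), (26, false, 1), (27, false, 2)], [(13, false, 1), (31, false, 0), (32, false, 3), (34, false, 5), (24, false, 2), (18, false, 1), (13, false, 0), (26, false, 2), (27, false, 3), (19, false, 2), (14, false, 1), (26, false, 1), (27, false, 2)]),
   ([7, 5, 5], [(33, false, 0), (33, false, 1), (20, false, 0)], [(20, false, 1)])]

def p2Eqs_5 : List (List ℕ × List Step × List Step) :=
  [([7, 5, 0], [(33, false, 0), (28, false, 1), (16, false, 0), (23, false, 2), (17, false, 1), (27, false, 3), (19, false, 2), (20, false, 3)], [(15, false, 1), (28, false, 0), (33, false, 5), (26, false, 4), (20, false, 3)]),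
   ([7, 5, 1], [(33, false, 0), (29, false, 1), (15, false, 0), (16, false, 1), (25, false, 3), (19, false, 2), (27, false, 4)], [(16, false, 1), (29, false, 0), (33, false, 4), (34, false, 5), (26, false, 3), (27, false, 4)]),
   ([7, 5, 2], [(33, false, 0), (30, false, 1), (17, false, 0), (24, false, 2), (18, false, 1), (25, false, 3), (19, false, 2), (26, false, 4), (20, false, 3)], [(17, false, 1), (30, false, 0), (33, false, 4), (34, false, 5), (20, false, 3)]),
   ([7, 5, 3], [(33, false, 0), (31, false, 1), (19, false, 0), (20, false, 1)], [(18, false, 1), (31, false, 0), (33, false, 3), (26, false, 2), (20, false, 1)]),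
   ([7, 5, 4], [(33, false, 0), (32, false, 1), (18, false, 0), (19, false, 1)], [(19, false, 1), (32, false, 0), (33, false, 2)]),
   ([7, 6, 6], [(34, false, 0), (34, false, 1), (27, false, 0)], [(27, false, 1)]),
   ([7, 6, 0], [(34, false, 0), (28, false, 1), (22, false, 0), (23, false, 1), (25, false, 2), (26, false, 3), (27, false, 4)], [(21, false, 1), (28, false, 0), (34, false, 5), (27, false, 4)]),
   ([7, 6, 1], [(34, false, 0), (29, false, 1), (21, false, 0), (22, false, 1), (25, false, 2), (27, false, 3)], [(22, false, 1), (29, false, 0), (34, false, 4), (27, false, 3)]),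
   ([7, 6, 2], [(34, false, 0), (30, false, 1), (23, false, 0), (24, false, 1), (25, false, 2), (26, false, 3)], [(23, false, 1), (30, false, 0), (34, false, 4)]),
   ([7, 6, 3], [(34, false, 0), (31, false, 1), (25, false, 0), (26, false, 1), (27, false, 2)], [(24, false, 1), (31, false, 0), (34, false, 3), (27, false, 2)]),
   ([7, 6, 4], [(34, false, 0), (32, false, 1), (24, false, 0), (25, false, 1)], [(25, false, 1), (32, false, 0), (34, false, 2)]),
   ([7, 6, 5], [(34, false, 0), (33, false, 1), (26, false, 0)], [(26, false, 1), (33, false, 0), (34, false, 1)]),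
   ([8, 2, 3, 5, 2, 3, 5], [(35, false, 0), (35, false, 1), (20, false, 0)], [(17, false, 3), (8, false, 2), (5, false, 1), (24, false, 3), (18, false, 2), (9, false, 1), (26, false, 1), (27, false, 2), (20, false, 1)]),
   ([8, 3, 3], [(36, false, 0), (36, false, 2), (24, false, 1), (9, false, 0), (27, false, 0)], [(9, false, 1), (39, false, 0)]),
   ([8, 3, 2, 3, 5], [(36, false, 0), (35, false, 2), (26, false, 1)], [(8, false, 1), (9, false, 2), (26, false, 2), (26, true, 2), (9, true, 2), (18, true, 3), (35, false, 0), (36, false, 1), (18, false, 0)]),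
   ([8, 2, 4, 2, 4], [(37, false, 0), (37, false, 2), (25, false, 1), (14, false, 0), (27, false, 0)], [(12, false, 2), (5, false, 1), (14, false, 1), (39, false, 0)]),
   ([8, 2, 4, 2, 3, 5], [(37, false, 0), (35, false, 2), (26, false, 1)], [(12, false, 2), (5, false, 1), (13, false, 1), (26, false, 3), (19, true, 2), (25, true, 3), (5, true, 1), (8, true, 2), (17, true, 3), (35, false, 0), (37, false, 1), (19, false, 0)]),
   ([8, 2, 4, 3], [(37, false, 0), (36, false, 2), (24, false, 1), (13, false, 0), (27, false, 2)], [(13, false, 2), (8, true, 1), (36, false, 0), (37, false, 2), (39, false, 4), (25, false, 1), (27, false, 2)]),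
   ([8, 2, 2], [(38, false, 0), (38, false, 2), (23, false, 1), (5, false, 0), (27, false, 0)], [(5, false, 1)]),
   ([8, 2, 2, 3, 5], [(38, false, 0), (35, false, 2), (26, false, 1)], [(5, false, 1), (27, true, 3), (5, true, 1), (8, true, 2), (17, true, 3), (35, false, 0), (38, false, 1), (39, false, 3), (17, false, 0), (27, false, 2)])]

def p2Eqs_6 : List (List ℕ × List Step × List Step) :=
  [([8, 2, 3], [(38, false, 0), (36, false, 2), (24, false, 1), (27, false, 2)], [(8, true, 1), (36, false, 0), (38, false, 2), (23, false, 1), (8, false, 0), (27, false, 2)]),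
   ([8, 2, 2, 4], [(38, false, 0), (37, false, 2), (25, false, 1), (27, false, 2)], [(5, false, 1), (5, true, 1), (12, true, 2), (37, false, 0), (38, false, 2), (23, false, 1), (12, false, 0), (27, false, 2)]),
   ([8, 6, 6], [(39, false, 0), (39, false, 1), (27, false, 0)], [(27, false, 1)]),
   ([8, 6, 2, 3, 5], [(39, false, 0), (35, false, 1), (26, false, 0)], [(23, false, 1), (24, false, 2), (26, false, 3), (35, false, 0), (39, false, 1)]),
   ([8, 6, 3], [(39, false, 0), (36, false, 1), (24, false, 0), (27, false, 1)], [(24, false, 1), (36, false, 0), (39, false, 2), (27, false, 1)]),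
   ([8, 6, 2, 4], [(39, false, 0), (37, false, 1), (25, false, 0), (27, false, 1)], [(23, false, 1), (25, false, 2), (37, false, 0), (39, false, 2), (27, false, 1)]),
   ([8, 6, 2], [(39, false, 0), (38, false, 1), (23, false, 0), (27, false, 1)], [(23, false, 1), (38, false, 0), (39, false, 2), (27, false, 1)])]

def p2Eqs : List (List ℕ × List Step × List Step) :=
  p2Eqs_0 ++ p2Eqs_1 ++ p2Eqs_2 ++ p2Eqs_3 ++ p2Eqs_4 ++ p2Eqs_5 ++ p2Eqs_6

def p2D : List (List ℕ) :=
  [[0, 0, 0, 0, 0, 0, 0, 0, 0, 0, 0, 0, 0, 0, 0, 0, 0, 0, 0, 0, 0, 0, 0, 0, 0, 0, 0, 0, 0, 0, 0, 0, 0, 0, 0, 0, 0, 0, 0, 0],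
   [0, 0, 0, 0, 0, 0, 0, 0, 0, 0, 0, 0, 0, 0, 0, 0, 0, 0, 0, 0, 0, 0, 0, 0, 0, 0, 0, 0, 0, 0, 0, 0, 0, 0, 0, 0, 0, 0, 0, 0],
   [0, 0, 0, 0, 0, 0, 0, 0, 0, 0, 0, 0, 0, 0, 0, 0, 0, 0, 0, 0, 0, 0, 0, 0, 0, 0, 0, 0, 0, 0, 0, 0, 0, 0, 0, 0, 0, 0, 0, 0],
   [0, 0, 0, 0, 0, 0, 0, 0, 0, 0, 0, 0, 0, 0, 0, 0, 0, 0, 0, 0, 0, 0, 0, 0, 0, 0, 0, 0, 0, 0, 0, 0, 1, 0, 0, 0, 0, 0, 0, 0],
   [0, 0, 0, 0, 0, 0, 0, 0, 0, 0, 0, 1, 0, 0, 0, 0, 0, 1, 0, 0, 0, 0, 0, 0, 0, 0, 0, 0, 0, 0, 0, 1, 1, 0, 0, 0, 0, 0, 0, 0],
   [0, 0, 0, 0, 0, 0, 0, 0, 0, 0, 0, 1, 0, 0, 0, 0, 0, 0, 0, 0, 0, 0, 0, 0, 0, 0, 0, 0, 0, 0, 0, 0, 0, 0, 0, 0, 0, 0, 0, 0],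
   [0, 0, 0, 0, 0, 0, 0, 0, 0, 0, 0, 0, 0, 0, 0, 0, 0, 1, 0, 0, 0, 0, 0, 0, 0, 0, 0, 0, 0, 0, 0, 0, 0, 0, 0, 0, 0, 0, 0, 0]]

def p2Phi : List (ℕ) :=
  [0,
   0,
   1,
   0,
   0,
   0,
   0,
   0,
   0,
   0,
   0,
   1,
   0,
   0,
   0,
   0,
   0,
   0,
   0,
   0,
   0,
   0,
   0,
   0,
   0,
   0,
   0,
   0,
   0,
   0,
   0,
   0,
   1,
   0,
   0,
   0,
   0,
   0,
   0,
   0]

def p2Sol : List (ℕ × List (ℕ × ℕ)) :=
  [(1, [(2, 1), (4, 1), (5, 1), (10, 1), (11, 1), (14, 1), (16, 1), (22, 1), (23, 1), (84, 1), (86, 1), (89, 1), (91, 1), (112, 1)]),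
   (1, [(2, 1), (3, 1), (10, 1), (14, 1), (16, 1), (20, 1), (21, 1), (84, 1), (85, 1), (88, 1), (89, 1), (92, 1), (94, 1), (112, 1)]),
   (1, []),
   (0, [(1, 1), (3, 1), (5, 1), (10, 1), (11, 1), (13, 1), (14, 1), (16, 1), (20, 1), (21, 1), (22, 1), (89, 1), (91, 1), (94, 1)]),
   (0, [(2, 1), (3, 1), (5, 1), (6, 1), (12, 1), (13, 1), (21, 1), (23, 1), (86, 1), (89, 1), (94, 1)]),
   (0, [(7, 1), (10, 1), (12, 1), (13, 1), (14, 1), (20, 1), (21, 1), (22, 1), (112, 1)]),
   (0, [(1, 1), (3, 1), (7, 1), (12, 1), (13, 1), (21, 1), (23, 1), (86, 1), (88, 1), (92, 1)]),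
   (0, [(1, 1), (2, 1), (3, 1), (4, 1), (5, 1), (6, 1), (13, 1), (14, 1), (16, 1), (20, 1), (23, 1)]),
   (0, [(1, 1), (5, 1), (7, 1), (11, 1), (13, 1), (14, 1), (20, 1), (21, 1), (22, 1), (92, 1), (94, 1)]),
   (0, [(4, 1), (5, 1), (6, 1), (16, 1), (20, 1), (22, 1), (23, 1), (92, 1), (94, 1)]),
   (0, [(0, 1), (3, 1), (4, 1), (5, 1), (6, 1), (10, 1), (12, 1), (13, 1), (14, 1), (16, 1), (22, 1)]),
   (0, []),
   (0, [(1, 1), (4, 1), (5, 1), (10, 1), (11, 1), (14, 1), (20, 1), (86, 1), (88, 1), (94, 1)]),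
   (0, [(0, 1), (2, 1), (5, 1), (10, 1), (12, 1), (14, 1), (21, 1)]),
   (0, [(1, 1), (2, 1), (7, 1), (14, 1), (22, 1), (23, 1), (86, 1), (88, 1), (94, 1)]),
   (0, [(0, 1)]),
   (0, [(2, 1), (5, 1), (10, 1), (11, 1), (12, 1), (22, 1)]),
   (0, []),
   (0, [(0, 1), (10, 1), (11, 1), (13, 1), (14, 1)]),
   (0, [(0, 1), (10, 1), (13, 1), (14, 1), (21, 1)]),
   (0, [(10, 1), (12, 1), (13, 1), (14, 1), (20, 1), (21, 1), (22, 1)]),
   (0, [(1, 1), (4, 1), (6, 1), (10, 1), (11, 1), (13, 1), (14, 1), (16, 1), (21, 1), (23, 1)]),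
   (0, [(0, 1), (12, 1), (20, 1), (22, 1), (23, 1)]),
   (0, [(1, 1), (4, 1), (6, 1), (13, 1)]),
   (0, [(0, 1), (10, 1), (11, 1)]),
   (0, [(0, 1), (20, 1), (21, 1)]),
   (0, [(1, 1), (4, 1), (6, 1), (14, 1), (16, 1)]),
   (0, [(10, 1), (11, 1), (12, 1), (13, 1), (20, 1), (22, 1), (23, 1)])]

def p2Nf_0 : List (List ℕ) :=
  [[6],
   [2, 6],
   [2, 4, 6],
   [4, 6],
   [3, 6],
   [2, 3, 6],
   [2, 3, 4, 6],
   [3, 4, 6],
   [3, 4],
   [2, 3, 4],
   [2, 3],
   [3],
   [4],
   [2, 4],
   [2],
   [],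
   [2, 3, 5, 6],
   [3, 5],
   [3, 4, 5],
   [2, 3, 4, 5, 6],
   [2, 5],
   [5, 6],
   [4, 5, 6],
   [2, 4, 5],
   [2, 4, 5, 6],
   [4, 5],
   [5],
   [2, 5, 6],
   [2, 3, 4, 5],
   [3, 4, 5, 6],
   [3, 5, 6],
   [2, 3, 5],
   [1, 6],
   [1, 2, 6],
   [1, 2, 4],
   [1, 4],
   [1, 3, 6],
   [1, 2, 3, 6],
   [1, 2, 3, 4],
   [1, 3, 4],
   [1, 3, 4, 6],
   [1, 2, 3, 4, 6],
   [1, 2, 3],
   [1, 3],
   [1, 4, 6],
   [1, 2, 4, 6],
   [1, 2],
   [1],
   [0, 6],
   [0, 2, 6],
   [0, 2, 3, 4, 6],
   [0, 3, 4, 6],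
   [0, 4],
   [0, 2, 4],
   [0, 2, 3],
   [0, 3],
   [0, 3, 6],
   [0, 2, 3, 6],
   [0, 2, 4, 6],
   [0, 4, 6]]

def p2Nf_1 : List (List ℕ) :=
  [[0, 3, 4],
   [0, 2, 3, 4],
   [0, 2],
   [0],
   [0, 1, 5, 6],
   [0, 1, 2, 5],
   [0, 1, 2, 3, 5],
   [0, 1, 3, 5, 6],
   [0, 1, 3, 4, 5, 6],
   [0, 1, 2, 3, 4, 5],
   [0, 1, 2, 4, 5, 6],
   [0, 1, 4, 5],
   [0, 1, 4, 5, 6],
   [0, 1, 2, 4, 5],
   [0, 1, 2, 3, 4, 5, 6],
   [0, 1, 3, 4, 5],
   [0, 1, 3, 5],
   [0, 1, 2, 3, 5, 6],
   [0, 1, 2, 5, 6],
   [0, 1, 5],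
   [0, 1, 2, 4],
   [0, 1, 4],
   [0, 1, 3, 4, 6],
   [0, 1, 2, 3, 4, 6],
   [0, 1, 2, 3],
   [0, 1, 3],
   [0, 1],
   [0, 1, 2],
   [0, 1, 2, 6],
   [0, 1, 6],
   [0, 1, 3, 6],
   [0, 1, 2, 3, 6],
   [0, 1, 2, 3, 4],
   [0, 1, 3, 4],
   [0, 1, 4, 6],
   [0, 1, 2, 4, 6],
   [0, 2, 3, 4, 5, 6],
   [0, 3, 4, 5],
   [0, 5, 6],
   [0, 2, 5],
   [0, 2, 3, 5, 6],
   [0, 3, 5],
   [0, 4, 5, 6],
   [0, 2, 4, 5],
   [0, 2, 4, 5, 6],
   [0, 4, 5],
   [0, 3, 5, 6],
   [0, 2, 3, 5],
   [0, 2, 5, 6],
   [0, 5],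
   [0, 3, 4, 5, 6],
   [0, 2, 3, 4, 5],
   [1, 2, 3, 5, 6],
   [1, 3, 5],
   [1, 3, 4, 5, 6],
   [1, 2, 3, 4, 5],
   [1, 2, 5],
   [1, 5, 6],
   [1, 4, 5],
   [1, 2, 4, 5, 6]]

def p2Nf_2 : List (List ℕ) :=
  [[1, 2, 4, 5],
   [1, 4, 5, 6],
   [1, 5],
   [1, 2, 5, 6],
   [1, 2, 3, 4, 5, 6],
   [1, 3, 4, 5],
   [1, 3, 5, 6],
   [1, 2, 3, 5]]

def p2Nf : List (List ℕ) :=
  p2Nf_0 ++ p2Nf_1 ++ p2Nf_2

def p2Four : List (ℕ × ℕ) :=
  [(1, 3),
   (3, 2),
   (4, 1),
   (5, 2),
   (6, 1),
   (7, 2),
   (10, 2),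
   (11, 2),
   (12, 2),
   (13, 1),
   (16, 2),
   (17, 1),
   (20, 2),
   (21, 2),
   (22, 2),
   (84, 2),
   (85, 2),
   (88, 2),
   (91, 2),
   (94, 2),
   (112, 2)]

/-- The certificate at 2. -/
def cert2 : CfsgLib.SchurCert.GCert :=
  ⟨2, 7, p2Rels, p2Eqs, p2D, p2Phi, p2Sol, p2Nf⟩

def p3Gens : List (ℕ) :=
  [18049858564787819,
   35322616351984,
   35322750569737,
   69659004928,
   134221824,
   35322482135040,
   18014535948439040]

def p3Rels : List (List ℕ × List ℕ) :=
  [([0, 0, 0], []),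
   ([1, 0], [0, 1, 2]),
   ([1, 1, 1], []),
   ([2, 0], [0, 2]),
   ([2, 1], [1, 2]),
   ([2, 2, 2], []),
   ([3, 0, 1, 1, 2, 2], [0, 0, 1, 3]),
   ([4, 0, 0, 2, 2], [0, 2, 4]),
   ([5, 0, 1, 2, 2], [0, 2, 2, 5]),
   ([6, 0, 1, 1], [1, 2, 6])]

def p3Eqs : List (List ℕ × List Step × List Step) :=
  [([0, 0, 0, 0], [(0, false, 0)], [(0, false, 1)]),
   ([1, 1, 1, 0], [(2, false, 0)], [(1, false, 2), (1, false, 1), (1, false, 0), (4, false, 2), (4, false, 4), (4, false, 3), (2, false, 1), (5, false, 1)]),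
   ([1, 0, 0, 0], [(1, false, 0), (3, false, 2), (1, false, 1), (3, false, 4), (3, false, 3), (1, false, 2), (0, false, 0), (5, false, 1)], [(0, false, 1)]),
   ([1, 1, 1, 1], [(2, false, 0)], [(2, false, 1)]),
   ([2, 2, 2, 0], [(5, false, 0)], [(3, false, 2), (3, false, 1), (3, false, 0), (5, false, 1)]),
   ([2, 0, 0, 0], [(3, false, 0), (3, false, 1), (3, false, 2), (0, false, 0)], [(0, false, 1)]),
   ([2, 1, 0], [(4, false, 0), (3, false, 1), (1, false, 0)], [(1, false, 1), (3, false, 0), (4, false, 1)]),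
   ([2, 2, 2, 1], [(5, false, 0)], [(4, false, 2), (4, false, 1), (4, false, 0), (5, false, 1)]),
   ([2, 1, 1, 1], [(4, false, 0), (4, false, 1), (4, false, 2), (2, false, 0)], [(2, false, 1)]),
   ([2, 2, 2, 2], [(5, false, 0)], [(5, false, 1)]),
   ([3, 0, 1, 1, 2, 2, 0, 1, 1, 2, 2, 0, 1, 1, 2, 2], [(6, false, 0), (6, false, 3), (6, false, 6), (1, false, 2), (0, false, 0), (3, false, 1), (1, false, 0), (4, false, 3), (4, false, 2), (3, false, 4), (3, false, 3), (1, false, 2), (1, false, 1), (4, false, 3), (5, false, 4), (3, false, 4), (1, false, 3), (1, false, 2), (0, false, 0), (4, false, 1), (5, false, 2), (2, false, 0)], [(3, false, 5), (3, false, 4), (1, false, 3), (1, false, 2), (4, false, 4), (5, false, 5), (4, false, 5), (2, false, 3), (4, false, 3), (5, false, 4), (1, false, 3), (0, false, 1), (4, false, 2), (4, false, 3), (2, false, 1), (5, false, 1)]),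
   ([4, 0, 0, 2, 2, 0, 0, 2, 2, 0, 0, 2, 2], [(7, false, 0), (7, false, 2), (7, false, 4), (3, false, 1), (3, false, 3), (3, false, 2), (0, false, 0), (5, false, 0)], [(3, false, 4), (3, false, 3), (0, false, 1), (3, false, 2), (3, false, 1), (5, false, 2), (3, false, 2), (3, false, 3), (0, false, 1), (5, false, 1)]),
   ([5, 0, 1, 2, 2, 0, 1, 2, 2, 0, 1, 2, 2], [(8, false, 0), (8, false, 3), (8, false, 6), (3, false, 2), (3, false, 1), (5, false, 2), (3, false, 2), (0, false, 0), (5, false, 0)], [(3, false, 4), (3, false, 3), (1, false, 2), (5, false, 4), (3, false, 6), (3, false, 5), (1, false, 4), (1, false, 3), (0, false, 1), (4, false, 2), (5, false, 3), (4, false, 3), (2, false, 1), (5, false, 1)]),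
   ([6, 0, 1, 1, 0, 1, 1, 0, 1, 1], [(9, false, 0), (9, false, 2), (9, false, 4), (4, false, 1), (4, false, 3), (4, false, 2), (2, false, 0), (5, false, 0)], [(1, false, 3), (1, false, 2), (4, false, 4), (4, false, 6), (4, false, 5), (2, false, 3), (4, false, 4), (4, false, 3), (3, false, 5), (3, false, 4), (1, false, 3), (0, false, 1), (5, false, 2), (2, false, 1)])]

def p3D : List (List ℕ) :=
  [[0, 0, 0, 0, 0, 0, 0, 0, 0, 0],
   [0, 0, 0, 0, 0, 0, 0, 0, 0, 0],
   [0, 1, 0, 0, 0, 0, 0, 0, 0, 0]]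

def p3Phi : List (ℕ) :=
  [0,
   0,
   0,
   0,
   0,
   0,
   0,
   0,
   0,
   0]

def p3Sol : List (ℕ × List (ℕ × ℕ)) :=
  [(0, [(1, 1), (11, 2)]),
   (0, []),
   (0, [(1, 2), (10, 1), (13, 1)]),
   (0, [(1, 1), (11, 1), (12, 1), (13, 2)]),
   (0, [(1, 2), (10, 1), (11, 1), (12, 2)]),
   (0, [(1, 2)])]

def p3Nf : List (List ℕ) :=
  [[],
   [1],
   [1, 1],
   [0],
   [0, 0],
   [0, 1, 2, 2],
   [0, 0, 2],
   [0, 0, 2, 2],
   [0, 2, 2],
   [0, 0, 1, 1],
   [1, 1, 2, 2],
   [0, 1, 1, 2, 2],
   [0, 0, 1],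
   [0, 0, 1, 1, 2, 2],
   [0, 2],
   [1, 1, 2],
   [0, 0, 1, 1, 2],
   [1, 2],
   [0, 1, 1],
   [0, 0, 1, 2, 2],
   [0, 1, 2],
   [0, 1],
   [1, 2, 2],
   [2],
   [0, 1, 1, 2],
   [2, 2],
   [0, 0, 1, 2]]

/-- The certificate at 3. -/
def cert3 : CfsgLib.SchurCert.GCert :=
  ⟨3, 3, p3Rels, p3Eqs, p3D, p3Phi, p3Sol, p3Nf⟩

def p5Gens : List (ℕ) :=
  [18049720320528028,
   35184372089856,
   137707390464,
   344134255616]

def p5Rels : List (List ℕ × List ℕ) :=
  [([0, 0, 0, 0, 0], []),
   ([1, 0], [0, 1]),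
   ([1, 1, 1, 1, 1], []),
   ([2, 0], [0, 2]),
   ([2, 1], [1, 1, 1, 1, 2]),
   ([3, 0], [0, 0, 0, 0, 3]),
   ([3, 1], [1, 1, 1, 1, 3])]

def p5Eqs : List (List ℕ × List Step × List Step) :=
  [([0, 0, 0, 0, 0, 0], [(0, false, 0)], [(0, false, 1)]),
   ([1, 1, 1, 1, 1, 0], [(2, false, 0)], [(1, false, 4), (1, false, 3), (1, false, 2), (1, false, 1), (1, false, 0), (2, false, 1)]),
   ([1, 0, 0, 0, 0, 0], [(1, false, 0), (1, false, 1), (1, false, 2), (1, false, 3), (1, false, 4), (0, false, 0)], [(0, false, 1)]),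
   ([1, 1, 1, 1, 1, 1], [(2, false, 0)], [(2, false, 1)]),
   ([2, 0, 0, 0, 0, 0], [(3, false, 0), (3, false, 1), (3, false, 2), (3, false, 3), (3, false, 4), (0, false, 0)], [(0, false, 1)]),
   ([2, 1, 1, 1, 1, 1], [(4, false, 0), (4, false, 4), (4, false, 8), (4, false, 12), (4, false, 16), (2, false, 0), (2, false, 0), (2, false, 0), (2, false, 0)], [(2, false, 1)]),
   ([2, 1, 0], [(4, false, 0), (3, false, 4), (1, false, 3), (1, false, 2), (1, false, 1), (1, false, 0)], [(1, false, 1), (3, false, 0), (4, false, 1)]),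
   ([3, 0, 0, 0, 0, 0], [(5, false, 0), (5, false, 4), (5, false, 8), (5, false, 12), (5, false, 16), (0, false, 0), (0, false, 0), (0, false, 0), (0, false, 0)], [(0, false, 1)]),
   ([3, 1, 1, 1, 1, 1], [(6, false, 0), (6, false, 4), (6, false, 8), (6, false, 12), (6, false, 16), (2, false, 0), (2, false, 0), (2, false, 0), (2, false, 0)], [(2, false, 1)]),
   ([3, 1, 0], [(6, false, 0), (5, false, 4), (1, false, 3), (1, false, 2), (1, false, 1), (1, false, 0), (1, false, 4), (1, false, 3), (1, false, 2), (1, false, 1), (1, false, 5), (1, false, 4), (1, false, 3), (1, false, 2), (1, false, 6), (1, false, 5), (1, false, 4), (1, false, 3)], [(1, false, 1), (5, false, 0), (6, false, 4)])]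

def p5D : List (List ℕ) :=
  [[0, 0, 0, 0, 0, 0, 0],
   [0, 0, 0, 0, 0, 0, 0]]

def p5Phi : List (ℕ) :=
  [0,
   0,
   0,
   0,
   0,
   0,
   0]

def p5Sol : List (ℕ × List (ℕ × ℕ)) :=
  [(0, [(7, 2)]),
   (0, [(6, 2)]),
   (0, [(5, 2)])]

def p5Nf : List (List ℕ) :=
  [[],
   [1],
   [1, 1, 1, 1],
   [1, 1, 1],
   [1, 1],
   [0],
   [0, 1, 1],
   [0, 1, 1, 1],
   [0, 1],
   [0, 1, 1, 1, 1],
   [0, 0, 0, 0, 1, 1, 1, 1],
   [0, 0, 0, 0, 1],
   [0, 0, 0, 0, 1, 1, 1],
   [0, 0, 0, 0, 1, 1],
   [0, 0, 0, 0],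
   [0, 0, 0],
   [0, 0, 0, 1, 1],
   [0, 0, 0, 1, 1, 1],
   [0, 0, 0, 1],
   [0, 0, 0, 1, 1, 1, 1],
   [0, 0, 1, 1, 1, 1],
   [0, 0, 1],
   [0, 0, 1, 1, 1],
   [0, 0, 1, 1],
   [0, 0]]

/-- The certificate at 5. -/
def cert5 : CfsgLib.SchurCert.GCert :=
  ⟨5, 2, p5Rels, p5Eqs, p5D, p5Phi, p5Sol, p5Nf⟩

/-- A word of odd length in the four reflections that gives the identity. -/
def oddWord : List ℕ :=
  [1, 3, 0, 3, 2, 1, 0, 2, 3, 1, 3, 1, 3, 0, 3, 2, 1, 0, 2, 3, 1, 3, 1, 3, 0, 3, 2, 1, 0, 2, 3, 1, 3, 1, 3, 0, 3, 2, 1, 0, 2, 3, 1, 3, 1, 3, 0, 3, 2, 1, 0, 2, 3, 1, 3]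

end CfsgLib.J2.Mult
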