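import Cfsg.Agent.J2.Minimal

/-!
# The reflections as linear isometries
-/

set_option autoImplicit false
set_option maxRecDepth 100000
set_option Elab.async false

namespace CfsgLib.J2

open Quaternion Cfsg.Spor

theorem both_ideal {p : Q8} (hp : p.isI = true) (h1 : inIdeal qh.conj p = true) (h2 : inIdeal qh p = true) :
    ∃ r : Q8, r.isI = true ∧ val p = 2 * val r := by
  obtain ⟨a, ha, hpa⟩ := (mem_Ih hp).2 h1
  obtain ⟨b, hb, hpb⟩ := (mem_Ihbar hp).2 h2
  set al : Q8 := ⟨0,0,1,-1,0,1,1,0⟩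
  set be : Q8 := ⟨0,0,0,0,0,0,-2,0⟩
  have e : val qh.conj * val al + val qh * val be = 1 := by
    rw [← (mul_spec (by decide) (by decide)).2, ← (mul_spec (by decide) (by decide)).2, ← val_add,
      show (qh.conj.mul al).add (qh.mul be) = Q8.one by decide, val_one]
  obtain ⟨r, hr, hrv⟩ := mem_icosians.1
    (add_mem (mul_mem ha (val_mem_icosians.2 (show al.isI = true by decide)))
      (mul_mem hb (val_mem_icosians.2 (show be.isI = true by decide))))
  refine ⟨r, hr, ?_⟩
  rw [hrv]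
  calc val p = val p * val qh.conj * val al + val p * val qh * val be := by
        rw [mul_assoc, mul_assoc, ← mul_add, e, mul_one]
    _ = 2 * (a * val al + b * val be) := by
        have k1 : val p * val qh.conj = 2 * a := by
          rw [hpa, ← qh_eq, mul_assoc, qh_norm.1, mul_two, two_mul]
        have k2 : val p * val qh = 2 * b := by
          rw [hpb, ← qh_eq, ← val_conj, mul_assoc, qh_norm.2, mul_two, two_mul]
        rw [k1, k2, mul_assoc, mul_assoc, mul_add]

/-- Three vectors spanning the lattice. -/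
def basisV : List V3 :=
  [(Q8.one, Q8.one, Q8.one.add qh), (Q8.zero, qh, qh.neg), (Q8.zero, Q8.zero, ⟨4, 0, 0, 0, 0, 0, 0, 0⟩)]

/-- Half the product `x·r`, doubled coordinates. -/
def halfQip (x r : V3) : Q8 := ((x.1.mul r.1.conj).add (x.2.1.mul r.2.1.conj)).add (x.2.2.mul r.2.2.conj) |>.half

def evenQip (x r : V3) : Bool :=
  (((x.1.mul r.1.conj).add (x.2.1.mul r.2.1.conj)).add (x.2.2.mul r.2.2.conj)).evenB && (halfQip x r).isI

theorem evenQip_ok : (List.range 315).all (fun i => basisV.all fun x => evenQip x (line i)) = true := by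
  decide +kernel

theorem basisV_ok : basisV.all inLat = true := by decide +kernel

theorem halfQip_spec {x r : V3} (hx : isI3 x = true) (hr : isI3 r = true) (h : evenQip x r = true) :
    val (halfQip x r) = (1 / 2 : ℝ) • qip (vec x) (vec r) ∧ (halfQip x r).isI = true := by
  rw [evenQip, Bool.and_eq_true] at h
  obtain ⟨x1, x2, x3⟩ := isI3_iff.1 hx
  obtain ⟨r1, r2, r3⟩ := isI3_iff.1 hr
  refine ⟨?_, h.2⟩
  rw [halfQip, val_half h.1, val_add, val_add, (mul_spec x1 (isI_conj r1)).2, (mul_spec x2 (isI_conj r2)).2,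
    (mul_spec x3 (isI_conj r3)).2, val_conj, val_conj, val_conj, qip, Fin.sum_univ_three]
  rfl

theorem qip_add (x y r : Fin 3 → ℍ[ℝ]) : qip (x + y) r = qip x r + qip y r := by
  simp [qip, add_mul, Finset.sum_add_distrib]

theorem qip_smul (a : ℍ[ℝ]) (x r : Fin 3 → ℍ[ℝ]) : qip (a • x) r = a * qip x r := by
  simp [qip, mul_assoc, Finset.mul_sum]

theorem lattice_decomp {v : Fin 3 → ℍ[ℝ]} (hv : v ∈ icoLeech) :
    ∃ a b c : ℍ[ℝ], a ∈ icosians ∧ b ∈ icosians ∧ c ∈ icosians ∧
      v = a • vec (Q8.one, Q8.one, Q8.one.add qh) + b • vec (Q8.zero, qh, qh.neg) +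
        c • vec (Q8.zero, Q8.zero, ⟨4, 0, 0, 0, 0, 0, 0, 0⟩) := by
  obtain ⟨hI, hxy, hyz, hs⟩ := hv
  obtain ⟨b, hb, hbe⟩ := hxy
  obtain ⟨b', hb', hbe'⟩ := hyz
  obtain ⟨d, hd, hde⟩ := hs
  -- the residual last coordinate
  obtain ⟨p, hp, hpv⟩ := mem_icosians.1 (show v 2 - v 0 * (1 + icoH) + (-b) * icoH ∈ icosians by
    have hh : icoH ∈ icosians := by rw [← qh_eq]; exact val_mem_icosians.2 (by decide)
    exact add_mem (sub_mem (hI 2) (mul_mem (hI 0) (add_mem (one_mem _) hh))) (mul_mem (neg_mem hb) hh))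
  have h2p : inIdeal qh.conj p = true := by
    refine (mem_Ih hp).1 ⟨-b - b' + -b - v 0, sub_mem (add_mem (sub_mem (neg_mem hb) hb') (neg_mem hb)) (hI 0), ?_⟩
    rw [hpv, show v 2 = v 0 - b * icoH - b' * icoH by rw [← hbe, ← hbe']; abel]
    noncomm_ring
  obtain ⟨e, he, hee⟩ := (mem_Ihbar (p := Q8.add ⟨6, 0, 0, 0, 0, 0, 0, 0⟩ qh) (by decide)).2 (by decide)
  have h3p : inIdeal qh p = true := by
    refine (mem_Ihbar hp).1 ⟨d - v 0 * e, sub_mem hd (mul_mem (hI 0) he), ?_⟩
    have h3 : val (⟨6, 0, 0, 0, 0, 0, 0, 0⟩ : Q8) = 3 := by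
      rw [show (3 : ℍ[ℝ]) = ((3 : ℝ) : ℍ[ℝ]) by norm_cast]
      ext <;> simp [zv] <;> norm_num
    rw [val_add, h3, qh_eq] at hee
    rw [hpv, sub_mul, mul_assoc (v 0), ← hee, ← hde, neg_mul, ← hbe]
    noncomm_ring
  obtain ⟨r, hr, hrv⟩ := both_ideal hp h2p h3p
  refine ⟨v 0, -b, val r, hI 0, neg_mem hb, val_mem_icosians.2 hr, ?_⟩
  have h4 : val (⟨4, 0, 0, 0, 0, 0, 0, 0⟩ : Q8) = 2 := by
    rw [show (2 : ℍ[ℝ]) = ((2 : ℝ) : ℍ[ℝ]) by norm_cast]
    ext <;> simp [zv] <;> norm_num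
  funext t
  fin_cases t
  · simp [vec, val_zero, val_one]
  · simp [vec, val_zero, val_one, qh_eq, ← hbe]
  · simp [vec, val_zero, val_one, val_add, val_neg, qh_eq, h4]
    rw [(Commute.ofNat_right (val r) 2).eq, ← hrv, hpv]
    noncomm_ring

theorem halfQip_lattice {i : ℕ} (hi : i < 315) {x : Fin 3 → ℍ[ℝ]} (hx : x ∈ icoLeech) :
    (1 / 2 : ℝ) • qip x (vec (line i)) ∈ icosians := by
  obtain ⟨a, b, c, ha, hb, hc, rfl⟩ := lattice_decomp hx
  have key : ∀ w ∈ basisV, (1 / 2 : ℝ) • qip (vec w) (vec (line i)) ∈ icosians := by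
    intro w hw
    have h := List.all_eq_true.1 (List.all_eq_true.1 evenQip_ok i (List.mem_range.2 hi)) w hw
    obtain ⟨h1, h2⟩ := halfQip_spec (inLat_isI3 (List.all_eq_true.1 basisV_ok w hw)) (line_isI3 hi) h
    rw [← h1]; exact val_mem_icosians.2 h2
  rw [qip_add, qip_add, qip_smul, qip_smul, qip_smul, smul_add, smul_add, ← mul_smul_comm, ← mul_smul_comm,
    ← mul_smul_comm]
  exact add_mem (add_mem (mul_mem ha (key _ (by simp [basisV]))) (mul_mem hb (key _ (by simp [basisV]))))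
    (mul_mem hc (key _ (by simp [basisV])))

theorem qip_conj (x y : Fin 3 → ℍ[ℝ]) : star (qip x y) = qip y x := by
  simp [qip, star_sum, star_mul]

theorem qip_sub (x y r : Fin 3 → ℍ[ℝ]) : qip (x - y) r = qip x r - qip y r := by
  simp [qip, sub_mul, Finset.sum_sub_distrib]

theorem qrefl_eq (r x : Fin 3 → ℍ[ℝ]) : qrefl r x = x - ((1 / 2 : ℝ) • qip x r) • r := rfl

theorem qip_qrefl {r : Fin 3 → ℍ[ℝ]} (hr : qip r r = 4) (x : Fin 3 → ℍ[ℝ]) :
    qip (qrefl r x) r = -qip x r := by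
  rw [qrefl_eq, qip_sub, qip_smul, hr, show (4 : ℍ[ℝ]) = ((4 : ℝ) : ℍ[ℝ]) by norm_cast,
    Quaternion.mul_coe_eq_smul, smul_smul]
  norm_num
  rw [two_smul]; abel

/-- The reflection as a linear map. -/
noncomputable def reflLin (r : Fin 3 → ℍ[ℝ]) : (Fin 3 → ℍ[ℝ]) →ₗ[ℍ[ℝ]] (Fin 3 → ℍ[ℝ]) where
  toFun := qrefl r
  map_add' x y := by
    simp only [qrefl_eq, qip_add, smul_add, add_smul]; abel
  map_smul' a x := by
    simp only [qrefl_eq, qip_smul, RingHom.id_apply, smul_sub, ← mul_smul_comm, mul_smul]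

theorem qrefl_qrefl {r : Fin 3 → ℍ[ℝ]} (hr : qip r r = 4) (x : Fin 3 → ℍ[ℝ]) : qrefl r (qrefl r x) = x := by
  rw [qrefl_eq r (qrefl r x), qip_qrefl hr, smul_neg, neg_smul, qrefl_eq]
  abel

theorem qip_qrefl_qrefl {r : Fin 3 → ℍ[ℝ]} (hr : qip r r = 4) (x y : Fin 3 → ℍ[ℝ]) :
    qip (qrefl r x) (qrefl r y) = qip x y := by
  have h1 : qip (qrefl r x) (qrefl r y) = qip x (qrefl r y) - ((1 / 2 : ℝ) • qip x r) * qip r (qrefl r y) := by
    rw [qrefl_eq r x, qip_sub, qip_smul]
  have h2 : ∀ z, qip z (qrefl r y) = qip z y - qip z r * star ((1 / 2 : ℝ) • qip y r) := by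
    intro z
    rw [← qip_conj (qrefl r y) z, qrefl_eq, qip_sub, qip_smul, star_sub, star_mul, qip_conj, qip_conj]
  rw [h1, h2, h2, hr, ← qip_conj y r, Quaternion.star_smul, show (4 : ℍ[ℝ]) = ((4 : ℝ) : ℍ[ℝ]) by norm_cast,
    Quaternion.coe_mul_eq_smul, smul_smul, mul_sub, mul_smul_comm, smul_mul_assoc, mul_smul_comm, smul_mul_assoc,
    smul_smul]
  norm_num
  module

theorem qrefl_mem {i : ℕ} (hi : i < 315) {x : Fin 3 → ℍ[ℝ]} (hx : x ∈ icoLeech) :
    qrefl (vec (line i)) x ∈ icoLeech := by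
  have h := smul_mem_lattice (halfQip_lattice hi hx) (vec_mem (line_ok hi).1)
  rw [qrefl_eq]
  have hs : ∀ {u v : Fin 3 → ℍ[ℝ]}, u ∈ icoLeech → v ∈ icoLeech → u - v ∈ icoLeech := by
    intro u v hu hv
    obtain ⟨a1, a2, a3, a4⟩ := hu
    obtain ⟨b1, b2, b3, b4⟩ := hv
    refine ⟨fun t => sub_mem (a1 t) (b1 t), ?_, ?_, ?_⟩
    · obtain ⟨c, hc, e⟩ := a2; obtain ⟨d, hd, e'⟩ := b2
      exact ⟨c - d, sub_mem hc hd, by rw [sub_mul, ← e, ← e']; simp only [Pi.sub_apply]; abel⟩
    · obtain ⟨c, hc, e⟩ := a3; obtain ⟨d, hd, e'⟩ := b3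
      exact ⟨c - d, sub_mem hc hd, by rw [sub_mul, ← e, ← e']; simp only [Pi.sub_apply]; abel⟩
    · obtain ⟨c, hc, e⟩ := a4; obtain ⟨d, hd, e'⟩ := b4
      exact ⟨c - d, sub_mem hc hd, by rw [sub_mul, ← e, ← e']; simp only [Pi.sub_apply]; abel⟩
  exact hs hx h

/-- The reflection in line `i`, as a permutation of the lattice. -/
noncomputable def refl (i : Fin 315) : Equiv.Perm icoLeech :=
  Function.Involutive.toPerm (fun x => ⟨qrefl (vec (line i)) x, qrefl_mem i.2 x.2⟩)
    (fun x => Subtype.ext (qrefl_qrefl (line_qip i.2) _))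

theorem refl_apply (i : Fin 315) (x : icoLeech) :
    ((refl i x : icoLeech) : Fin 3 → ℍ[ℝ]) = qrefl (vec (line i)) x := rfl

theorem qrefl_unit {u : ℍ[ℝ]} (hu : Quaternion.normSq u = 1) (r x : Fin 3 → ℍ[ℝ]) :
    qrefl (u • r) x = qrefl r x := by
  have h : qip x (u • r) = qip x r * star u := by
    rw [← qip_conj (u • r) x, qip_smul, star_mul, qip_conj]
  rw [qrefl_eq, qrefl_eq, h, smul_smul, ← smul_mul_assoc, mul_assoc, Quaternion.star_mul_self, hu,
    Quaternion.coe_one, mul_one]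

theorem isIco_iff (f : Equiv.Perm icoLeech) : IsIcoReflection f ↔ ∃ i : Fin 315, f = refl i := by
  constructor
  · rintro ⟨⟨r, hr⟩, hq, hf⟩
    obtain ⟨k, i, hk, hi, rfl⟩ := exists_line hr hq
    refine ⟨⟨i, hi⟩, Equiv.ext fun x => Subtype.ext ?_⟩
    rw [hf x, refl_apply]
    exact qrefl_unit (normSq_unit hk) _ _
  · rintro ⟨i, rfl⟩
    exact ⟨⟨_, vec_mem (line_ok i.2).1⟩, line_qip i.2, fun x => rfl⟩

theorem refl_mem (i : Fin 315) : refl i ∈ twoJ2 := Subgroup.subset_closure ((isIco_iff _).2 ⟨i, rfl⟩)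

theorem app_inv {β : Type*} (g : Equiv.Perm β) (x : β) : g (g⁻¹ x) = x := by
  rw [← Equiv.Perm.mul_apply, mul_inv_cancel, Equiv.Perm.one_apply]

/-- `g` is the restriction of a linear isometry. -/
def IsLin (g : Equiv.Perm icoLeech) (F : (Fin 3 → ℍ[ℝ]) ≃ₗ[ℍ[ℝ]] (Fin 3 → ℍ[ℝ])) : Prop :=
  (∀ x : icoLeech, ((g x : icoLeech) : Fin 3 → ℍ[ℝ]) = F x) ∧ ∀ x y, qip (F x) (F y) = qip x y

theorem exists_lin {g : Equiv.Perm icoLeech} (hg : g ∈ twoJ2) : ∃ F, IsLin g F := by
  induction hg using Subgroup.closure_induction with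
  | mem f hf =>
    obtain ⟨i, rfl⟩ := (isIco_iff f).1 hf
    exact ⟨LinearEquiv.ofInvolutive (reflLin (vec (line i))) (qrefl_qrefl (line_qip i.2)),
      fun x => rfl, qip_qrefl_qrefl (line_qip i.2)⟩
  | one => exact ⟨LinearEquiv.refl _ _, fun x => rfl, fun x y => rfl⟩
  | mul g h _ _ hg hh =>
    obtain ⟨F, hF, hF'⟩ := hg; obtain ⟨G, hG, hG'⟩ := hh
    refine ⟨G.trans F, fun x => ?_, fun x y => ?_⟩
    · rw [Equiv.Perm.mul_apply, hF, hG]; rfl
    · rw [LinearEquiv.trans_apply, LinearEquiv.trans_apply, hF', hG']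
  | inv g _ hg =>
    obtain ⟨F, hF, hF'⟩ := hg
    refine ⟨F.symm, fun x => ?_, fun x y => ?_⟩
    · apply F.injective
      rw [← hF, LinearEquiv.apply_symm_apply, app_inv]
    · conv_rhs => rw [← F.apply_symm_apply x, ← F.apply_symm_apply y]
      rw [hF']

theorem conj_eq_refl {g : Equiv.Perm icoLeech} {F} (hF : IsLin g F) {i j : Fin 315} {u : ℍ[ℝ]}
    (hu : Quaternion.normSq u = 1) (h : F (vec (line i)) = u • vec (line j)) : g * refl i * g⁻¹ = refl j := by
  refine Equiv.ext fun x => Subtype.ext ?_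
  rw [Equiv.Perm.mul_apply, Equiv.Perm.mul_apply, hF.1, refl_apply, qrefl_eq, map_sub, LinearEquiv.map_smul, ← hF.2,
    ← hF.1, app_inv, h, ← qrefl_eq, qrefl_unit hu, refl_apply]

theorem exists_conj_refl {g : Equiv.Perm icoLeech} (hg : g ∈ twoJ2) (i : Fin 315) :
    ∃ j, g * refl i * g⁻¹ = refl j := by
  obtain ⟨F, hF⟩ := exists_lin hg
  have hmem : F (vec (line i)) ∈ icoLeech := by
    have := hF.1 ⟨_, vec_mem (line_ok i.2).1⟩
    rw [← this]; exact Subtype.coe_prop _
  obtain ⟨k, j, hk, hj, he⟩ := exists_line hmem (by rw [hF.2]; exact line_qip i.2)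
  exact ⟨⟨j, hj⟩, conj_eq_refl hF (normSq_unit hk) he⟩

/-- Images of the lines under the four generating reflections: packed in 9-bit digits. -/
def genTab : List ℕ := [0x80f22f261a4ac3a690ecce761bb518e5343384baaa452882c8f12140f72004460d6e4822485b1e362b430e67e3bcc51003ad596473f29ccc0383b54a31b71adce82c65065ed1372abd18710a3f53e7f3783cc65b8906d761e5faad400273c51f71c8198254971f834ee424c31942b16194a0d2e644cc72c01a8490eb886bfc56d396b6938ac6b8711ad0758746c2576ae864cc811ce1c4602a75b0157d1c22cc4754a04e06851954a4d44c99b2e97a9c964c50b96494db701008282424685c239209982f94049d460b66caca8932d250928b7a42c904f9087e72106ecc071015b279f0ae79800db178e9566c3c98c254c0e78c4486e20517a522a7820d343309cd4d4859635a0b223e0a1493718265027d862d0622930b712a966f8f81268994d1a27597af59e1a2c2e48a4b9c246330064970884e54a39792348010433a3d3b17cc2770d1fd154dc9560f72bb38027879191bc0c4417c7b1f87aa16622843a0226e,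
  0x1f5ece26c2dd7c9779278f2dc31b1cbe734746c260193c7c30149148c321593478041a951edf0e735aacdc5d63369c89b752a97471479d928f44030552c330bb9aadf33248ceef560f0ff193f4e4f908124cd2cb17e409ac2729c3d446c8c15c55116cce1ae6580098ad3032449c73770bb6020a6992462d0048159a0665a081c5e9744cc05c822160c3e5b4d46aa40843470889b2fc223f519b5e0b0171200efb8b43a0a0b210e914bc59ba486083d4c93a2f88010ea2b9a3c48b0949bf8d07285cace80345a9424b80603584212cb281f077cbde74f58d27e62520ec29328d9624218202845564e88b93436917ebfdc0db978d206c596b2228c4260890629733744a28759e03c6f0f870d45b198c9a4ae168b12a3050a9c72375a3006cfa11a9882b9200f57a6225929a2444e2bc8e464c394b05476378aaf31d969087027944ee4e34c7243250b802412494a256abb40b250c87543519ea056b319c9a464765016,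
  0x2ac34e92ec60f029461f8969843b823f2c039e928c3171b152167c80e42df96941aaef8617db7363b8c9211404af8308123a9d9d1b781485e6921164dc862a9bc403431b306ec76d1fe46755e1956217488f1730b8e3b8041e4f98270a1109016672059d01b2e902b97a5e8cbed90b06493e3ac55da10229b1ac354cfe1c2b5aed97e309a82d94318ccaf0ac49baf7698fde24445150f83b7284dead86037994769d01a4a2b87334926b518d9d08d758744a2268134f33002259112912201e715188994133152dca69597c10acd20612220927d4c898b521ca933358bab1f0e208390241f81414b52652106106800305ec337f8a0c2ea8d3726e0a231b60c390a21606b644c28611e6b08d347d988b14a828796c4eb83dc1cd4e65d0f810f25a064b0cb7ea899f00324591e5184c9d884a5422e686222a393a9327271cf01383b13c050dce475117a4917e57591c5a27307805c28371972263d95aa83897913b41c67,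
  0x24cf0656ca39e0dd6fb08c4ad3e31d50f33b1796ee540278dcd5571c194f73922d4ee373b2d068a4e2191ea4631f99ed758b4928b96084df8fd0b86201040100603050a85a11090d1d45e03901c5ea4d961801935468c8ac09759446ee48d9fe50e88e015c2de99b8268411099a6eac882be480669c39327d8889876848d484dea59744d520761cca160b1f078d4b42d9d218209497c7ebc079521e7b6b48e60d8160d18b2d8ea31911426021124f36c9847174d9dda29817110090d9d2081a858acd9dea68f46142480e45920cc8ca48212773449a12f580a493394d4adf4ba0747ded2264c953e272baf424461ab6a700a31cc4b4f25b4a822395d984742835bb462b2158e1d424500c1e8a3198a8f2880d9a06c9616889b81f5aafc3a2566964b85274914ceaa25bb8aa4e7ca5c86ab29928f4583633878504e909b6b8202f87a8723bec010683bf9fe14851a4ba81599cd22f160191d8a262351c4957c40e0419]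

def genUnit : List ℕ := [0xc6c3a4b70f71e05cc391644ee15668ae4036c5dd5261580bd4c04ce0088e7cf439da047ec000002d9b92551d90000b72537ab2bcd10e0f9364ceb7a641224d2ba592f6f85941433810776e599a08e970523bde348dcf1aa58015adc9ee51e000debd4a14a344cd8dd28a54274ff780e40385bb608017b76f78b9893218c941050236401abd79fd31faaf1e587801d3e60cd62c3dd72b55ab1ccc1ed870f20e0e992a5527b70e9f91c65cbd8fdcca1fd7b147600053003649b1a4e64de72c70f7a008e59964dc1146cc19be3870d2e18e900602b1a3c7e2462d6ce0d1e0089e3fbd13f65c41496bc9b834080ac8cb0b708752804de10802edf31cbdbd71bf45ec99220a00958aca55800288adb0192f65981d400,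
  0xe0b979b7dda6bfbdda6dee058b9bd87190190c9b464e710a00e35fd788d5b020632dc5c8d5b0e1e32de44ab1bd3049695c6eaa2ad5574144afb1d467f21e67851f66a7b589ba07264bc45b9da07c9f67b16cbb47c322947db49000ae400334c05b000c8237d83276aa0daa14699beb33ba283c24e9c4c9935802b7633d0e0545bda241f6a142ce747c405abcb3b4c764c8ca01a75d0e0a49a0000e303ceb01b3800d055d64df50c04d344b4a35a3659184c43ba8500fb4af6632b593e3218d0644d86b81019ed2b310c4b4dd089db122b3570245ab374a919916c916e26ec8568666d2b6a22b90cd595ba4665ab3122b743b44c090ce0598a26eb7238551c009529e2dbb39c74957d3bc94e53dd7b3af75b8e10,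
  0x7d72605c2b58c600c5b5330880b9780151e71583a60005d2a7a664c99c0f2935ad00b77a9d82c08ed000a1ed8be64b59379566fe4ad71a1fc73a7bd9e4d32d24680a00f6117325df2bc54cf79004059b556a5e0e094ba9e6aca6cbd2522b868ac8de7f1cd3a79dbd226e811c96f45b8458c00345d49b3916e202ba4ba32eea4391e446c9010b84d7fc40207a66f5ebc00a80e5ac75de0a54cf7e76d919b307739a725f6de00c4d9b6edcab84de070fb25e58438f19b87e58001929bae08805ca76c7d33a6ce3ee058f1fbc4819b3b1ce0d1bb8c191c690805384b911c007dc3c69c7163964f1412b90344091467ee65bd133407068eadaf84577bf00c4ee7ce0e872db62b01014c029579ef029281cdb01df380,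
  0x76e1366f8dd021f6e15cbb8dd0eb742597516b64aea59ad0d9d54347d5b257c13f0789f03cc100fc0653e9247633a83db3c06ac0dca66db488e33bd405bb40f1efa51cadd00d2f6a3bd4875d0f40520f9ad387d48f244fd619c00cd224c486da42f63ad2629ca2f00045dd69b81a4a40d9c7a9d44947b37152d442f947ca526f41d737270a1215d5a2e480198a00bd276970e0ce24787b36a862ca4623c8a14900d7d8d4f0a31cca66c5a4073035153520d4c3aee920f689b99afcf0116303d4c27a1cdba489b8463299a263db2326f3e9ae14ee688635c2ae1f5b431cab4bd704a1b7ba4cd52d375c2b6c8b852fa6a18c263de92f9c34bd188958f171844d13100c7171ac4448ccfb58ed1258651459f171cf]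

def genIdx : List ℕ := [231, 286, 238, 260]

/-- Parent in the orbit tree of line `0`. -/
def parTab : ℕ := 0xab8f21976c2690ac0e86fe3b0ce2b71b8d423f1cd03c7a826aa84069ecdd85a91203832b7e3968bdab39086492107cda360ad0dcb9804c7ec31206752aa5961c547a13d28bf740218cdd46c2acb71aac1765016ccec4c0d675d181c40a0fd0f8c2112260cc642e8e41b0ad8785f851c6fb9310c57454c458e660254195802e0d7b10710e66d422c2886ed649b16640848629f71a81214d3fa8d721c56297968c29538b69448560c82f0ac1ec6abde7683fa19b309b25487f8ee07e9d1e09ef1724859536375034e0a8188ee3a4932f1448e9486ba43d272047b140b8590f34c29a24008aa08420fe45c4568af36d8229b40127024ae197d16d21b332ca92c9224a7a10b0904bf90829e62ce76e930132c045b0905ed881282000b509f2bebde1111b004ff5ed0ce97b31c863aa8d4c84238e7780830758cc0a485863a1415e7860a4883e0239e996d98c2c8f3a0a87c2c4620c13dca74d50dd6f8bfc1209711a199a232e7ecbd0cfc0225a4a51f1464e297c87c005444ae6918a548de53b24e4809c908c062065153d13934a34001c547a4005604912b8719a31e040a641bc20e440d459ec7c56acc43925e8411d422000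

/-- Digit `i` of a packed table. -/
def getP (w t i : ℕ) : ℕ := (t >>> (w * i)) &&& (2 ^ w - 1)

def gidx (k : ℕ) : ℕ := genIdx.getD k 0
def genT (k i : ℕ) : ℕ := getP 9 (genTab.getD k 0) i
def genU (k i : ℕ) : ℕ := getP 7 (genUnit.getD k 0) i

/-- `qrefl` on coordinates. -/
def reflQ (r x : V3) : V3 :=
  let a := halfQip x r
  (x.1.sub (a.mul r.1), x.2.1.sub (a.mul r.2.1), x.2.2.sub (a.mul r.2.2))

def genRow (k : ℕ) : Bool :=
  Nat.blt (gidx k) 315 && (List.range 315).all fun i =>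
    evenQip (line i) (line (gidx k)) && Nat.blt (genT k i) 315 && Nat.blt (genU k i) 120 &&
      decide (reflQ (line (gidx k)) (line i) = smulV (unit (genU k i)) (line (genT k i)))

/-- One block of 63 lines of `genRow`; checked block by block to bound memory. -/
def genBlk (k c : ℕ) : Bool :=
  (List.range 63).all fun j =>
    evenQip (line (63 * c + j)) (line (gidx k)) && Nat.blt (genT k (63 * c + j)) 315 && Nat.blt (genU k (63 * c + j)) 120 &&
      decide (reflQ (line (gidx k)) (line (63 * c + j)) = smulV (unit (genU k (63 * c + j))) (line (genT k (63 * c + j))))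

theorem genBlk0_0 : genBlk 0 0 = true := by decide +kernel
theorem genBlk0_1 : genBlk 0 1 = true := by decide +kernel
theorem genBlk0_2 : genBlk 0 2 = true := by decide +kernel
theorem genBlk0_3 : genBlk 0 3 = true := by decide +kernel
theorem genBlk0_4 : genBlk 0 4 = true := by decide +kernel
theorem genBlk1_0 : genBlk 1 0 = true := by decide +kernel
theorem genBlk1_1 : genBlk 1 1 = true := by decide +kernel
theorem genBlk1_2 : genBlk 1 2 = true := by decide +kernel
theorem genBlk1_3 : genBlk 1 3 = true := by decide +kernel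
theorem genBlk1_4 : genBlk 1 4 = true := by decide +kernel
theorem genBlk2_0 : genBlk 2 0 = true := by decide +kernel
theorem genBlk2_1 : genBlk 2 1 = true := by decide +kernel
theorem genBlk2_2 : genBlk 2 2 = true := by decide +kernel
theorem genBlk2_3 : genBlk 2 3 = true := by decide +kernel
theorem genBlk2_4 : genBlk 2 4 = true := by decide +kernel
theorem genBlk3_0 : genBlk 3 0 = true := by decide +kernel
theorem genBlk3_1 : genBlk 3 1 = true := by decide +kernel
theorem genBlk3_2 : genBlk 3 2 = true := by decide +kernel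
theorem genBlk3_3 : genBlk 3 3 = true := by decide +kernel
theorem genBlk3_4 : genBlk 3 4 = true := by decide +kernel
theorem gidx_ok : (List.range 4).all (fun k => Nat.blt (gidx k) 315) = true := by decide +kernel

theorem genRow_ok : (List.range 4).all genRow = true := by
  refine List.all_eq_true.2 fun k hk => ?_
  have hk' := List.mem_range.1 hk
  simp only [genRow, Bool.and_eq_true]
  refine ⟨List.all_eq_true.1 gidx_ok k hk, List.all_eq_true.2 fun i hi => ?_⟩
  have hi' := List.mem_range.1 hi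
  have hblk : ∀ c < 5, genBlk k c = true := by
    intro c hc
    interval_cases k <;> interval_cases c
    · exact genBlk0_0
    · exact genBlk0_1
    · exact genBlk0_2
    · exact genBlk0_3
    · exact genBlk0_4
    · exact genBlk1_0
    · exact genBlk1_1
    · exact genBlk1_2
    · exact genBlk1_3
    · exact genBlk1_4
    · exact genBlk2_0
    · exact genBlk2_1
    · exact genBlk2_2
    · exact genBlk2_3
    · exact genBlk2_4
    · exact genBlk3_0
    · exact genBlk3_1
    · exact genBlk3_2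
    · exact genBlk3_3
    · exact genBlk3_4
  have h := List.all_eq_true.1 (hblk (i / 63) (by omega)) (i % 63) (List.mem_range.2 (Nat.mod_lt _ (by omega)))
  simp only [Nat.div_add_mod] at h
  exact h

theorem parTab_ok : (List.range 314).all (fun j =>
    let e := getP 11 parTab (j + 1)
    Nat.blt (e / 4) 315 && Nat.beq (genT (e % 4) (e / 4)) (j + 1)) = true := by decide +kernel

theorem zero_ne_ok : (List.range 314).all (fun j =>
    evenQip (line 0) (line (j + 1)) &&
      !(decide (reflQ (line (j + 1)) (line 0) = ((line 0).1.neg, (line 0).2.1.neg, (line 0).2.2.neg)))) = true := by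
  decide +kernel

theorem vec_reflQ {r x : V3} (hx : isI3 x = true) (hr : isI3 r = true) (h : evenQip x r = true) :
    vec (reflQ r x) = qrefl (vec r) (vec x) := by
  obtain ⟨h1, h2⟩ := halfQip_spec hx hr h
  obtain ⟨r1, r2, r3⟩ := isI3_iff.1 hr
  funext t
  rw [qrefl_eq, ← h1]
  fin_cases t <;>
    simp [vec, reflQ, val_sub, (mul_spec h2 r1).2, (mul_spec h2 r2).2, (mul_spec h2 r3).2]

theorem genI_lt {k : ℕ} (hk : k < 4) : gidx k < 315 := by
  have h := List.all_eq_true.1 genRow_ok k (List.mem_range.2 hk)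
  simp only [genRow, Bool.and_eq_true, Nat.blt_eq] at h
  exact h.1

theorem genT_lt {k i : ℕ} (hk : k < 4) (hi : i < 315) : genT k i < 315 := by
  have h := List.all_eq_true.1 genRow_ok k (List.mem_range.2 hk)
  simp only [genRow, Bool.and_eq_true, List.all_eq_true] at h
  simpa [Nat.blt_eq] using (h.2 i (List.mem_range.2 hi)).1.1.2

theorem gen_image {k i : ℕ} (hk : k < 4) (hi : i < 315) :
    ∃ F, IsLin (refl ⟨gidx k, genI_lt hk⟩) F ∧
      F (vec (line i)) = val (unit (genU k i)) • vec (line (genT k i)) ∧ genU k i < 120 := by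
  have h := List.all_eq_true.1 genRow_ok k (List.mem_range.2 hk)
  simp only [genRow, Bool.and_eq_true, List.all_eq_true, decide_eq_true_eq, Nat.blt_eq] at h
  obtain ⟨⟨⟨he, ht⟩, hu⟩, hq⟩ := h.2 i (List.mem_range.2 hi)
  refine ⟨LinearEquiv.ofInvolutive (reflLin (vec (line (gidx k))))
    (qrefl_qrefl (line_qip (genI_lt hk))), ⟨fun x => rfl, qip_qrefl_qrefl (line_qip (genI_lt hk))⟩, ?_, hu⟩
  show qrefl (vec (line (gidx k))) (vec (line i)) = _
  rw [← vec_reflQ (line_isI3 hi) (line_isI3 (genI_lt hk)) he, hq, vec_smulV (unit_isI _) (line_isI3 ht)]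
  rfl

theorem gen_conj {k i : ℕ} (hk : k < 4) (hi : i < 315) :
    refl ⟨gidx k, genI_lt hk⟩ * refl ⟨i, hi⟩ * (refl ⟨gidx k, genI_lt hk⟩)⁻¹ = refl ⟨genT k i, genT_lt hk hi⟩ := by
  obtain ⟨F, hF, h, hu⟩ := gen_image hk hi
  exact conj_eq_refl hF (normSq_unit hu) h

/-- Line `j` is within `n` steps of line `0` in the tree. -/
def depth (j : ℕ) : ℕ → Bool
  | 0 => Nat.beq j 0
  | n + 1 => Nat.beq j 0 || depth (getP 11 parTab j / 4) n

theorem depth_ok : (List.range 315).all (fun j => depth j 40) = true := by decide +kernel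

/-- The subgroup generated by the four reflections. -/
noncomputable def genGrp : Subgroup (Equiv.Perm icoLeech) :=
  Subgroup.closure {f | ∃ k, ∃ hk : k < 4, f = refl ⟨gidx k, genI_lt hk⟩}

/-- Some element of the generated group carries line `0` to line `j`. -/
def Reach (j : ℕ) : Prop :=
  ∃ g ∈ genGrp, ∃ F, IsLin g F ∧ ∃ u : ℍ[ℝ], u ∈ icosians ∧ Quaternion.normSq u = 1 ∧
    F (vec (line 0)) = u • vec (line j)

theorem reach_zero : Reach 0 :=
  ⟨1, one_mem _, LinearEquiv.refl _ _, ⟨fun _ => rfl, fun _ _ => rfl⟩, 1, one_mem _, map_one _, (one_smul _ _).symm⟩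

theorem reach_all : ∀ j : Fin 315, Reach j := by
  suffices h : ∀ (n j : ℕ), j < 315 → depth j n = true → Reach j by
    intro j
    exact h 40 j j.2 (List.all_eq_true.1 depth_ok j.val (List.mem_range.2 j.2))
  intro n
  induction n with
  | zero =>
    intro j _ hd
    obtain rfl : j = 0 := Nat.eq_of_beq_eq_true hd
    exact reach_zero
  | succ n ih =>
    intro j hj hd
    rcases Nat.eq_zero_or_pos j with rfl | h0
    · exact reach_zero
    · have h := List.all_eq_true.1 parTab_ok (j - 1) (List.mem_range.2 (by omega))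
      rw [show j - 1 + 1 = j by omega] at h
      simp only [Bool.and_eq_true, Nat.blt_eq] at h
      simp only [depth, Bool.or_eq_true] at hd
      rcases hd with hd | hd
      · exact absurd (Nat.eq_of_beq_eq_true hd) (by omega)
      · obtain ⟨g, hg, F, hF, u, hu, hu1, he⟩ := ih _ h.1 hd
        have hk : getP 11 parTab j % 4 < 4 := Nat.mod_lt _ (by omega)
        obtain ⟨G, hG, hGe, hGu⟩ := gen_image hk h.1
        refine ⟨_, mul_mem (Subgroup.subset_closure ⟨_, hk, rfl⟩) hg, F.trans G, ⟨fun x => ?_, fun x y => ?_⟩,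
          u * val (unit (genU (getP 11 parTab j % 4) (getP 11 parTab j / 4))), mul_mem hu (unit_mem _).2, ?_, ?_⟩
        · rw [Equiv.Perm.mul_apply, hG.1, hF.1]; rfl
        · rw [LinearEquiv.trans_apply, LinearEquiv.trans_apply, hG.2, hF.2]
        · rw [map_mul, hu1, normSq_unit hGu, one_mul]
        · rw [LinearEquiv.trans_apply, he, LinearEquiv.map_smul, hGe, smul_smul, Nat.eq_of_beq_eq_true h.2]

theorem exists_conj_gen (j : Fin 315) : ∃ g ∈ genGrp, g * refl ⟨0, by omega⟩ * g⁻¹ = refl j := by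
  obtain ⟨g, hg, F, hF, u, -, hu, he⟩ := reach_all j
  exact ⟨g, hg, conj_eq_refl hF hu he⟩

theorem genGrp_eq : genGrp = twoJ2 := by
  refine le_antisymm ((Subgroup.closure_le _).2 ?_) ((Subgroup.closure_le _).2 ?_)
  · rintro f ⟨k, hk, rfl⟩; exact refl_mem _
  · intro f hf
    obtain ⟨j, rfl⟩ := (isIco_iff f).1 hf
    obtain ⟨g, hg, hgj⟩ := exists_conj_gen j
    rw [← hgj]
    obtain ⟨g₀, hg₀, he⟩ := exists_conj_gen ⟨gidx 0, genI_lt (by omega)⟩
    have h0 : refl ⟨0, by omega⟩ ∈ genGrp := by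
      rw [show refl ⟨0, by omega⟩ = g₀⁻¹ * refl ⟨gidx 0, genI_lt (by omega)⟩ * g₀ by rw [← he]; group]
      exact mul_mem (mul_mem (inv_mem hg₀) (Subgroup.subset_closure ⟨0, by omega, rfl⟩)) hg₀
    exact mul_mem (mul_mem hg h0) (inv_mem hg)

theorem refl_injective : Function.Injective refl := by
  have h0 : ∀ j : Fin 315, refl j = refl ⟨0, by omega⟩ → j.val = 0 := by
    intro j hj
    by_contra hne
    have h := List.all_eq_true.1 zero_ne_ok (j.val - 1) (List.mem_range.2 (by omega))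
    rw [show j.val - 1 + 1 = j.val by omega] at h
    simp only [Bool.and_eq_true, Bool.not_eq_true', decide_eq_false_iff_not] at h
    apply h.2
    apply vec_inj
    have hI := line_isI3 (show (0 : ℕ) < 315 by omega)
    rw [vec_reflQ hI (line_isI3 j.2) h.1]
    have := congrArg (fun f => ((f ⟨_, vec_mem (line_ok (show (0 : ℕ) < 315 by omega)).1⟩ : icoLeech) : Fin 3 → ℍ[ℝ])) hj
    simp only [refl_apply] at this
    rw [this, qrefl_eq, line_qip (show (0 : ℕ) < 315 by omega)]
    funext t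
    have h2 : ((1 / 2 : ℝ) • (4 : ℍ[ℝ])) = 2 := by
      rw [show (4 : ℍ[ℝ]) = ((4 : ℝ) : ℍ[ℝ]) by norm_cast, Quaternion.smul_coe,
        show (2 : ℍ[ℝ]) = ((2 : ℝ) : ℍ[ℝ]) by norm_cast]
      norm_num
    rw [h2]
    fin_cases t <;> simp [vec, val_neg, two_mul]
  intro i j h
  obtain ⟨g, hg, F, hF, u, huI, hu, he⟩ := reach_all i
  have hg2 : g ∈ twoJ2 := genGrp_eq ▸ hg
  have h00 : (0 : ℕ) < 315 := by omega
  have hlat : ∀ x ∈ icoLeech, F.symm x ∈ icoLeech := by
    intro x hx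
    have h1 := hF.1 (g⁻¹ ⟨x, hx⟩)
    rw [app_inv] at h1
    rw [show F.symm x = ((g⁻¹ ⟨x, hx⟩ : icoLeech) : Fin 3 → ℍ[ℝ]) by rw [LinearEquiv.symm_apply_eq]; exact h1]
    exact Subtype.coe_prop _
  have hq : qip (F.symm (vec (line j))) (F.symm (vec (line j))) = 4 := by
    rw [← hF.2, LinearEquiv.apply_symm_apply]; exact line_qip j.2
  obtain ⟨k, j', hk, hj', hv⟩ := exists_line (hlat _ (vec_mem (line_ok j.2).1)) hq
  change F.symm _ = val (unit k) • vec (line j') at hv
  rw [LinearEquiv.symm_apply_eq, LinearEquiv.map_smul] at hv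
  have hk1 := normSq_unit hk
  have hinv : star (val (unit k)) * val (unit k) = 1 := by
    rw [Quaternion.star_mul_self, hk1, Quaternion.coe_one]
  have hFj : F (vec (line j')) = star (val (unit k)) • vec (line j) := by
    rw [hv, smul_smul, hinv, one_smul]
  have hc : g * refl ⟨j', hj'⟩ * g⁻¹ = refl j := conj_eq_refl hF (by rw [Quaternion.normSq_star]; exact hk1) hFj
  have hc0 : g * refl ⟨0, h00⟩ * g⁻¹ = refl i := conj_eq_refl hF hu he
  rw [← h, ← hc0] at hc
  have e : refl ⟨j', hj'⟩ = refl ⟨0, h00⟩ := by simpa using hc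
  obtain rfl : j' = 0 := h0 _ e
  rw [he] at hFj
  obtain ⟨p, hp, hpu⟩ := mem_icosians.1 huI
  obtain ⟨m, hm, hme⟩ := exists_unit_eq hp (by rw [hpu]; exact hu)
  obtain ⟨m', hm', hme'⟩ := exists_unit_eq (isI_conj (unit_isI k)) (by rw [val_conj, Quaternion.normSq_star]; exact hk1)
  rw [← hpu, ← hme, ← val_conj, ← hme'] at hFj
  exact Fin.ext (smul_line_inj hm hm' i.2 j.2 hFj).2

end CfsgLib.J2
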